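import Mathlib.Algebra.QuadraticAlgebra.Basic
import Mathlib.Data.Matrix.Mul
import Mathlib.LinearAlgebra.Matrix.Notation

/-!
Explicit data for a subgroup `3.A₇` of `SU₃(5)` over `𝔽₅[√2]`.
-/

set_option autoImplicit false
set_option maxRecDepth 10000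

namespace CfsgLib.UnitFive

/-- The field of 25 elements, computably. -/
abbrev R25 : Type := QuadraticAlgebra (ZMod 5) 2 0

/-- 3 by 3 matrices over it. -/
abbrev M25 : Type := Matrix (Fin 3) (Fin 3) R25

def genA : M25 := !![⟨4, 2⟩, ⟨4, 0⟩, ⟨3, 4⟩; ⟨2, 4⟩, ⟨0, 1⟩, ⟨3, 2⟩; ⟨4, 0⟩, ⟨3, 4⟩, ⟨1, 2⟩]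

def genB : M25 := !![⟨2, 1⟩, ⟨1, 2⟩, ⟨2, 3⟩; ⟨2, 1⟩, ⟨0, 0⟩, ⟨1, 4⟩; ⟨2, 4⟩, ⟨0, 1⟩, ⟨4, 0⟩]

def nodesChunk : Fin 18 → Fin 18 → M25 := ![
  ![!![⟨1, 0⟩, ⟨0, 0⟩, ⟨0, 0⟩; ⟨0, 0⟩, ⟨1, 0⟩, ⟨0, 0⟩; ⟨0, 0⟩, ⟨0, 0⟩, ⟨1, 0⟩], !![⟨2, 1⟩, ⟨1, 2⟩, ⟨2, 3⟩; ⟨2, 1⟩, ⟨0, 0⟩, ⟨1, 4⟩; ⟨2, 4⟩, ⟨0, 1⟩, ⟨4, 0⟩], !![⟨4, 2⟩, ⟨4, 0⟩, ⟨3, 4⟩; ⟨2, 4⟩, ⟨0, 1⟩, ⟨3, 2⟩; ⟨4, 0⟩, ⟨3, 4⟩, ⟨1, 2⟩], !![⟨3, 2⟩, ⟨0, 3⟩, ⟨1, 3⟩; ⟨1, 3⟩, ⟨2, 1⟩, ⟨3, 3⟩; ⟨0, 3⟩, ⟨3, 4⟩, ⟨2, 1⟩], !![⟨0, 3⟩, ⟨2, 2⟩, ⟨0, 1⟩; ⟨0, 1⟩, ⟨4, 1⟩, ⟨4, 4⟩; ⟨2,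 3⟩, ⟨3, 2⟩, ⟨2, 0⟩], !![⟨3, 3⟩, ⟨2, 2⟩, ⟨4, 1⟩; ⟨1, 4⟩, ⟨3, 0⟩, ⟨1, 2⟩; ⟨3, 2⟩, ⟨2, 2⟩, ⟨1, 1⟩], !![⟨4, 3⟩, ⟨2, 1⟩, ⟨4, 0⟩; ⟨4, 0⟩, ⟨0, 4⟩, ⟨3, 1⟩; ⟨3, 1⟩, ⟨3, 3⟩, ⟨1, 3⟩], !![⟨3, 0⟩, ⟨1, 0⟩, ⟨2, 2⟩; ⟨0, 1⟩, ⟨1, 1⟩, ⟨2, 0⟩; ⟨1, 4⟩, ⟨3, 3⟩, ⟨3, 3⟩], !![⟨3, 2⟩, ⟨0, 1⟩, ⟨0, 2⟩; ⟨0, 1⟩, ⟨4, 0⟩, ⟨2, 4⟩; ⟨3, 1⟩, ⟨2, 1⟩, ⟨0, 2⟩], !![⟨1, 3⟩, ⟨2, 3⟩, ⟨3, 4⟩; ⟨4, 0⟩, ⟨1, 2⟩, ⟨3, 1⟩; ⟨3, 4⟩, ⟨3, 4⟩, ⟨0, 2⟩], !![⟨2, 3⟩, ⟨2, 2⟩, ⟨2, 0⟩; ⟨1, 3⟩, ⟨1, 1⟩, ⟨4, 1⟩; ⟨0, 2⟩, ⟨3, 3⟩, ⟨4, 3⟩], !![⟨2, 3⟩, ⟨2, 4⟩, ⟨1, 3⟩;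 ⟨4, 4⟩, ⟨4, 3⟩, ⟨2, 0⟩; ⟨2, 2⟩, ⟨4, 0⟩, ⟨1, 1⟩], !![⟨0, 4⟩, ⟨1, 3⟩, ⟨0, 0⟩; ⟨0, 3⟩, ⟨3, 4⟩, ⟨3, 1⟩; ⟨4, 0⟩, ⟨2, 2⟩, ⟨4, 1⟩], !![⟨2, 4⟩, ⟨4, 3⟩, ⟨1, 0⟩; ⟨2, 2⟩, ⟨2, 0⟩, ⟨4, 0⟩; ⟨4, 3⟩, ⟨4, 4⟩, ⟨4, 1⟩], !![⟨1, 0⟩, ⟨1, 3⟩, ⟨3, 1⟩; ⟨3, 3⟩, ⟨1, 1⟩, ⟨2, 2⟩; ⟨4, 1⟩, ⟨3, 0⟩, ⟨0, 1⟩], !![⟨1, 0⟩, ⟨1, 4⟩, ⟨4, 0⟩; ⟨4, 1⟩, ⟨4, 1⟩, ⟨0, 1⟩; ⟨2, 3⟩, ⟨1, 2⟩, ⟨2, 1⟩], !![⟨0, 2⟩, ⟨2, 4⟩, ⟨3, 4⟩; ⟨1, 0⟩, ⟨0, 1⟩, ⟨2, 1⟩; ⟨4, 3⟩, ⟨4, 0⟩, ⟨2, 4⟩], !![⟨2, 2⟩, ⟨4, 4⟩, ⟨3, 2⟩; ⟨3, 3⟩, ⟨0, 4⟩, ⟨0, 3⟩; ⟨3, 0⟩, ⟨4, 1⟩, ⟨0, 1⟩]],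
  ![!![⟨2, 3⟩, ⟨4, 0⟩, ⟨2, 0⟩; ⟨2, 0⟩, ⟨3, 3⟩, ⟨2, 2⟩; ⟨2, 3⟩, ⟨3, 0⟩, ⟨1, 0⟩], !![⟨3, 3⟩, ⟨3, 2⟩, ⟨1, 1⟩; ⟨2, 4⟩, ⟨1, 2⟩, ⟨2, 2⟩; ⟨4, 3⟩, ⟨2, 1⟩, ⟨3, 2⟩], !![⟨3, 3⟩, ⟨0, 3⟩, ⟨0, 1⟩; ⟨4, 0⟩, ⟨0, 4⟩, ⟨3, 4⟩; ⟨1, 1⟩, ⟨2, 2⟩, ⟨4, 0⟩], !![⟨3, 3⟩, ⟨0, 3⟩, ⟨1, 2⟩; ⟨1, 2⟩, ⟨2, 3⟩, ⟨3, 4⟩; ⟨0, 3⟩, ⟨1, 2⟩, ⟨2, 3⟩], !![⟨0, 4⟩, ⟨3, 2⟩, ⟨0, 3⟩; ⟨2, 1⟩, ⟨3, 3⟩, ⟨0, 4⟩; ⟨3, 2⟩, ⟨4, 4⟩, ⟨4, 0⟩], !![⟨1, 4⟩, ⟨1, 3⟩, ⟨4, 1⟩; ⟨1, 0⟩, ⟨2, 1⟩, ⟨0, 1⟩; ⟨1, 0⟩, ⟨1, 0⟩, ⟨4, 4⟩], !![⟨3, 4⟩, ⟨0, 4⟩, ⟨2, 3⟩; ⟨0, 1⟩, ⟨3, 3⟩,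 ⟨3, 4⟩; ⟨3, 3⟩, ⟨0, 2⟩, ⟨0, 4⟩], !![⟨3, 4⟩, ⟨3, 4⟩, ⟨0, 3⟩; ⟨0, 4⟩, ⟨0, 0⟩, ⟨4, 3⟩; ⟨1, 0⟩, ⟨3, 0⟩, ⟨3, 2⟩], !![⟨2, 0⟩, ⟨4, 4⟩, ⟨4, 3⟩; ⟨1, 3⟩, ⟨1, 1⟩, ⟨4, 4⟩; ⟨3, 0⟩, ⟨4, 3⟩, ⟨4, 4⟩], !![⟨0, 1⟩, ⟨1, 1⟩, ⟨1, 1⟩; ⟨3, 4⟩, ⟨0, 4⟩, ⟨1, 0⟩; ⟨3, 3⟩, ⟨1, 4⟩, ⟨2, 2⟩], !![⟨2, 1⟩, ⟨2, 1⟩, ⟨0, 2⟩; ⟨2, 2⟩, ⟨1, 2⟩, ⟨0, 2⟩; ⟨1, 3⟩, ⟨4, 0⟩, ⟨3, 1⟩], !![⟨2, 1⟩, ⟨2, 4⟩, ⟨3, 4⟩; ⟨0, 1⟩, ⟨4, 0⟩, ⟨2, 4⟩; ⟨4, 0⟩, ⟨1, 2⟩, ⟨0, 3⟩], !![⟨1, 2⟩, ⟨2, 4⟩, ⟨3, 2⟩; ⟨4, 2⟩, ⟨2, 1⟩, ⟨2, 2⟩; ⟨0, 0⟩, ⟨0, 2⟩, ⟨2, 0⟩], !![⟨1, 2⟩, ⟨4,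 4⟩, ⟨4, 4⟩; ⟨1, 0⟩, ⟨1, 2⟩, ⟨2, 4⟩; ⟨0, 3⟩, ⟨1, 4⟩, ⟨0, 0⟩], !![⟨2, 2⟩, ⟨2, 0⟩, ⟨2, 3⟩; ⟨3, 2⟩, ⟨2, 0⟩, ⟨3, 3⟩; ⟨2, 0⟩, ⟨0, 4⟩, ⟨3, 0⟩], !![⟨2, 2⟩, ⟨0, 1⟩, ⟨3, 1⟩; ⟨1, 1⟩, ⟨4, 0⟩, ⟨2, 2⟩; ⟨2, 2⟩, ⟨3, 4⟩, ⟨1, 3⟩], !![⟨2, 2⟩, ⟨2, 2⟩, ⟨4, 4⟩; ⟨2, 0⟩, ⟨1, 4⟩, ⟨1, 3⟩; ⟨3, 2⟩, ⟨4, 0⟩, ⟨4, 4⟩], !![⟨4, 2⟩, ⟨3, 0⟩, ⟨4, 4⟩; ⟨1, 4⟩, ⟨4, 1⟩, ⟨1, 3⟩; ⟨4, 1⟩, ⟨0, 4⟩, ⟨2, 0⟩]],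
  ![!![⟨0, 3⟩, ⟨0, 2⟩, ⟨0, 3⟩; ⟨2, 1⟩, ⟨2, 4⟩, ⟨0, 3⟩; ⟨3, 1⟩, ⟨3, 4⟩, ⟨0, 3⟩], !![⟨1, 3⟩, ⟨4, 0⟩, ⟨2, 1⟩; ⟨4, 3⟩, ⟨2, 2⟩, ⟨2, 4⟩; ⟨0, 0⟩, ⟨3, 0⟩, ⟨3, 4⟩], !![⟨2, 3⟩, ⟨0, 0⟩, ⟨0, 0⟩; ⟨0, 0⟩, ⟨2, 3⟩, ⟨0, 0⟩; ⟨0, 0⟩, ⟨0, 0⟩, ⟨2, 3⟩], !![⟨1, 4⟩, ⟨4, 3⟩, ⟨3, 0⟩; ⟨2, 3⟩, ⟨1, 1⟩, ⟨3, 3⟩; ⟨2, 2⟩, ⟨4, 1⟩, ⟨3, 3⟩], !![⟨1, 4⟩, ⟨4, 4⟩, ⟨4, 3⟩; ⟨4, 3⟩, ⟨1, 4⟩, ⟨1, 1⟩; ⟨4, 1⟩, ⟨0, 1⟩, ⟨3, 0⟩], !![⟨3, 4⟩, ⟨1, 0⟩, ⟨1, 2⟩; ⟨1, 3⟩, ⟨4, 1⟩, ⟨1, 1⟩; ⟨3, 3⟩, ⟨2, 2⟩, ⟨4, 4⟩], !![⟨3, 4⟩, ⟨3, 3⟩, ⟨1, 2⟩; ⟨2, 2⟩, ⟨1, 4⟩,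 ⟨1, 0⟩; ⟨1, 3⟩, ⟨2, 3⟩, ⟨2, 1⟩], !![⟨4, 4⟩, ⟨1, 0⟩, ⟨3, 2⟩; ⟨1, 3⟩, ⟨3, 4⟩, ⟨3, 3⟩; ⟨3, 0⟩, ⟨4, 3⟩, ⟨3, 0⟩], !![⟨4, 4⟩, ⟨4, 0⟩, ⟨2, 2⟩; ⟨1, 2⟩, ⟨3, 2⟩, ⟨2, 1⟩; ⟨4, 1⟩, ⟨4, 1⟩, ⟨4, 3⟩], !![⟨4, 4⟩, ⟨4, 2⟩, ⟨1, 1⟩; ⟨1, 4⟩, ⟨1, 1⟩, ⟨0, 1⟩; ⟨1, 3⟩, ⟨1, 4⟩, ⟨2, 0⟩], !![⟨0, 0⟩, ⟨2, 0⟩, ⟨0, 2⟩; ⟨0, 1⟩, ⟨3, 3⟩, ⟨3, 4⟩; ⟨4, 3⟩, ⟨4, 0⟩, ⟨0, 2⟩], !![⟨4, 0⟩, ⟨3, 1⟩, ⟨0, 4⟩; ⟨3, 4⟩, ⟨0, 1⟩, ⟨1, 0⟩; ⟨0, 4⟩, ⟨3, 3⟩, ⟨3, 1⟩], !![⟨4, 0⟩, ⟨4, 2⟩, ⟨2, 4⟩; ⟨2, 4⟩, ⟨3, 4⟩, ⟨2, 1⟩; ⟨4, 2⟩, ⟨3, 3⟩, ⟨3, 4⟩], !![⟨0, 1⟩, ⟨2,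 4⟩, ⟨1, 0⟩; ⟨4, 4⟩, ⟨0, 0⟩, ⟨3, 4⟩; ⟨3, 0⟩, ⟨1, 4⟩, ⟨0, 4⟩], !![⟨1, 1⟩, ⟨1, 0⟩, ⟨3, 3⟩; ⟨1, 1⟩, ⟨0, 1⟩, ⟨2, 0⟩; ⟨1, 3⟩, ⟨2, 1⟩, ⟨1, 0⟩], !![⟨1, 1⟩, ⟨3, 0⟩, ⟨0, 1⟩; ⟨0, 1⟩, ⟨3, 0⟩, ⟨1, 1⟩; ⟨3, 0⟩, ⟨4, 2⟩, ⟨3, 0⟩], !![⟨1, 1⟩, ⟨1, 2⟩, ⟨4, 1⟩; ⟨4, 3⟩, ⟨4, 1⟩, ⟨1, 1⟩; ⟨2, 0⟩, ⟨4, 1⟩, ⟨0, 1⟩], !![⟨2, 1⟩, ⟨2, 3⟩, ⟨1, 3⟩; ⟨4, 2⟩, ⟨4, 4⟩, ⟨2, 0⟩; ⟨1, 0⟩, ⟨2, 3⟩, ⟨1, 4⟩]],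
  ![!![⟨2, 1⟩, ⟨3, 3⟩, ⟨1, 3⟩; ⟨2, 4⟩, ⟨1, 4⟩, ⟨0, 0⟩; ⟨0, 2⟩, ⟨1, 0⟩, ⟨0, 4⟩], !![⟨3, 1⟩, ⟨0, 2⟩, ⟨2, 4⟩; ⟨3, 2⟩, ⟨4, 3⟩, ⟨2, 4⟩; ⟨4, 3⟩, ⟨3, 3⟩, ⟨0, 3⟩], !![⟨3, 1⟩, ⟨2, 3⟩, ⟨1, 2⟩; ⟨2, 4⟩, ⟨4, 1⟩, ⟨0, 0⟩; ⟨2, 4⟩, ⟨3, 2⟩, ⟨1, 2⟩], !![⟨4, 1⟩, ⟨1, 2⟩, ⟨2, 0⟩; ⟨4, 3⟩, ⟨3, 0⟩, ⟨1, 4⟩; ⟨1, 4⟩, ⟨1, 1⟩, ⟨1, 3⟩], !![⟨4, 1⟩, ⟨3, 3⟩, ⟨4, 0⟩; ⟨2, 0⟩, ⟨2, 0⟩, ⟨4, 2⟩; ⟨1, 2⟩, ⟨3, 2⟩, ⟨2, 4⟩], !![⟨0, 2⟩, ⟨1, 3⟩, ⟨1, 0⟩; ⟨4, 2⟩, ⟨2, 1⟩, ⟨2, 3⟩; ⟨3, 2⟩, ⟨2, 2⟩, ⟨3, 0⟩], !![⟨3, 2⟩, ⟨0, 0⟩, ⟨0, 0⟩; ⟨0, 0⟩, ⟨4, 1⟩,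 ⟨3, 4⟩; ⟨0, 0⟩, ⟨0, 3⟩, ⟨1, 4⟩], !![⟨4, 2⟩, ⟨2, 4⟩, ⟨1, 0⟩; ⟨2, 4⟩, ⟨4, 0⟩, ⟨0, 4⟩; ⟨3, 2⟩, ⟨1, 2⟩, ⟨0, 3⟩], !![⟨0, 3⟩, ⟨4, 2⟩, ⟨2, 2⟩; ⟨0, 3⟩, ⟨0, 0⟩, ⟨1, 1⟩; ⟨3, 4⟩, ⟨1, 2⟩, ⟨3, 2⟩], !![⟨3, 3⟩, ⟨3, 1⟩, ⟨4, 3⟩; ⟨3, 1⟩, ⟨0, 0⟩, ⟨3, 0⟩; ⟨4, 2⟩, ⟨4, 1⟩, ⟨4, 1⟩], !![⟨3, 3⟩, ⟨3, 4⟩, ⟨1, 2⟩; ⟨2, 0⟩, ⟨2, 2⟩, ⟨2, 2⟩; ⟨2, 2⟩, ⟨4, 3⟩, ⟨2, 1⟩], !![⟨4, 3⟩, ⟨3, 1⟩, ⟨1, 0⟩; ⟨0, 4⟩, ⟨0, 2⟩, ⟨3, 3⟩; ⟨0, 0⟩, ⟨0, 2⟩, ⟨4, 4⟩], !![⟨0, 4⟩, ⟨2, 3⟩, ⟨2, 4⟩; ⟨4, 4⟩, ⟨0, 4⟩, ⟨3, 0⟩; ⟨4, 4⟩, ⟨0, 3⟩, ⟨0, 0⟩], !![⟨1, 4⟩, ⟨3,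 0⟩, ⟨4, 2⟩; ⟨1, 1⟩, ⟨0, 0⟩, ⟨0, 2⟩; ⟨0, 4⟩, ⟨2, 1⟩, ⟨2, 3⟩], !![⟨1, 4⟩, ⟨4, 3⟩, ⟨1, 1⟩; ⟨1, 2⟩, ⟨2, 3⟩, ⟨3, 4⟩; ⟨3, 0⟩, ⟨0, 3⟩, ⟨0, 0⟩], !![⟨1, 4⟩, ⟨0, 4⟩, ⟨2, 0⟩; ⟨0, 3⟩, ⟨3, 3⟩, ⟨4, 2⟩; ⟨0, 0⟩, ⟨0, 2⟩, ⟨3, 0⟩], !![⟨4, 4⟩, ⟨1, 2⟩, ⟨3, 0⟩; ⟨1, 1⟩, ⟨2, 3⟩, ⟨3, 2⟩; ⟨0, 1⟩, ⟨0, 2⟩, ⟨2, 3⟩], !![⟨0, 0⟩, ⟨4, 4⟩, ⟨3, 4⟩; ⟨0, 2⟩, ⟨1, 2⟩, ⟨2, 3⟩; ⟨3, 0⟩, ⟨1, 4⟩, ⟨4, 3⟩]],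
  ![!![⟨1, 0⟩, ⟨4, 3⟩, ⟨0, 2⟩; ⟨3, 0⟩, ⟨1, 4⟩, ⟨4, 2⟩; ⟨2, 2⟩, ⟨1, 1⟩, ⟨4, 0⟩], !![⟨2, 0⟩, ⟨2, 3⟩, ⟨1, 0⟩; ⟨2, 0⟩, ⟨1, 2⟩, ⟨1, 4⟩; ⟨0, 1⟩, ⟨0, 3⟩, ⟨3, 2⟩], !![⟨4, 0⟩, ⟨1, 0⟩, ⟨1, 1⟩; ⟨4, 0⟩, ⟨2, 0⟩, ⟨3, 3⟩; ⟨1, 4⟩, ⟨2, 3⟩, ⟨4, 0⟩], !![⟨4, 0⟩, ⟨4, 2⟩, ⟨3, 4⟩; ⟨4, 3⟩, ⟨2, 2⟩, ⟨2, 4⟩; ⟨2, 4⟩, ⟨3, 1⟩, ⟨0, 2⟩], !![⟨0, 1⟩, ⟨4, 0⟩, ⟨2, 1⟩; ⟨2, 1⟩, ⟨2, 4⟩, ⟨0, 3⟩; ⟨3, 3⟩, ⟨0, 1⟩, ⟨0, 2⟩], !![⟨0, 1⟩, ⟨3, 3⟩, ⟨2, 4⟩; ⟨2, 4⟩, ⟨1, 3⟩, ⟨2, 2⟩; ⟨2, 3⟩, ⟨2, 1⟩, ⟨1, 2⟩], !![⟨1, 1⟩, ⟨2, 2⟩, ⟨1, 0⟩; ⟨4, 2⟩, ⟨3, 2⟩,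 ⟨2, 4⟩; ⟨2, 0⟩, ⟨4, 4⟩, ⟨1, 2⟩], !![⟨2, 1⟩, ⟨1, 3⟩, ⟨1, 0⟩; ⟨4, 2⟩, ⟨2, 0⟩, ⟨4, 1⟩; ⟨3, 2⟩, ⟨4, 4⟩, ⟨3, 2⟩], !![⟨3, 1⟩, ⟨1, 0⟩, ⟨1, 2⟩; ⟨1, 2⟩, ⟨4, 4⟩, ⟨2, 0⟩; ⟨2, 2⟩, ⟨3, 3⟩, ⟨4, 1⟩], !![⟨4, 1⟩, ⟨1, 3⟩, ⟨4, 1⟩; ⟨1, 3⟩, ⟨2, 1⟩, ⟨3, 3⟩; ⟨1, 4⟩, ⟨2, 2⟩, ⟨1, 0⟩], !![⟨0, 2⟩, ⟨1, 3⟩, ⟨3, 3⟩; ⟨3, 1⟩, ⟨3, 3⟩, ⟨4, 3⟩; ⟨0, 3⟩, ⟨3, 1⟩, ⟨3, 4⟩], !![⟨1, 2⟩, ⟨1, 1⟩, ⟨1, 1⟩; ⟨0, 3⟩, ⟨0, 0⟩, ⟨4, 1⟩; ⟨1, 0⟩, ⟨3, 1⟩, ⟨4, 3⟩], !![⟨2, 2⟩, ⟨2, 1⟩, ⟨0, 1⟩; ⟨2, 3⟩, ⟨2, 2⟩, ⟨4, 1⟩; ⟨1, 1⟩, ⟨4, 3⟩, ⟨2, 0⟩], !![⟨2, 2⟩, ⟨2,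 1⟩, ⟨4, 3⟩; ⟨4, 3⟩, ⟨2, 2⟩, ⟨2, 4⟩; ⟨2, 4⟩, ⟨4, 3⟩, ⟨3, 2⟩], !![⟨3, 2⟩, ⟨2, 1⟩, ⟨4, 2⟩; ⟨0, 3⟩, ⟨0, 0⟩, ⟨4, 1⟩; ⟨0, 4⟩, ⟨1, 4⟩, ⟨4, 1⟩], !![⟨4, 2⟩, ⟨4, 1⟩, ⟨3, 0⟩; ⟨0, 2⟩, ⟨0, 0⟩, ⟨1, 4⟩; ⟨2, 3⟩, ⟨0, 2⟩, ⟨1, 3⟩], !![⟨4, 2⟩, ⟨2, 4⟩, ⟨1, 0⟩; ⟨2, 2⟩, ⟨0, 2⟩, ⟨1, 2⟩; ⟨3, 4⟩, ⟨0, 3⟩, ⟨3, 4⟩], !![⟨0, 3⟩, ⟨0, 0⟩, ⟨1, 4⟩; ⟨0, 4⟩, ⟨2, 0⟩, ⟨1, 4⟩; ⟨3, 3⟩, ⟨3, 4⟩, ⟨0, 4⟩]],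
  ![!![⟨1, 3⟩, ⟨1, 0⟩, ⟨3, 1⟩; ⟨3, 2⟩, ⟨1, 2⟩, ⟨2, 4⟩; ⟨0, 3⟩, ⟨2, 1⟩, ⟨0, 2⟩], !![⟨1, 3⟩, ⟨2, 0⟩, ⟨1, 1⟩; ⟨3, 1⟩, ⟨0, 0⟩, ⟨1, 4⟩; ⟨2, 2⟩, ⟨0, 3⟩, ⟨4, 2⟩], !![⟨2, 3⟩, ⟨2, 1⟩, ⟨1, 2⟩; ⟨3, 4⟩, ⟨0, 0⟩, ⟨4, 4⟩; ⟨1, 3⟩, ⟨2, 0⟩, ⟨1, 1⟩], !![⟨3, 3⟩, ⟨2, 3⟩, ⟨1, 1⟩; ⟨3, 1⟩, ⟨1, 2⟩, ⟨3, 3⟩; ⟨4, 3⟩, ⟨3, 4⟩, ⟨3, 2⟩], !![⟨3, 3⟩, ⟨4, 3⟩, ⟨2, 4⟩; ⟨4, 3⟩, ⟨3, 2⟩, ⟨2, 1⟩; ⟨2, 1⟩, ⟨0, 2⟩, ⟨2, 4⟩], !![⟨4, 3⟩, ⟨4, 0⟩, ⟨3, 4⟩; ⟨2, 0⟩, ⟨1, 1⟩, ⟨0, 4⟩; ⟨4, 1⟩, ⟨2, 3⟩, ⟨2, 3⟩], !![⟨4, 3⟩, ⟨2, 1⟩, ⟨1, 0⟩; ⟨2, 4⟩, ⟨3, 3⟩,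 ⟨1, 2⟩; ⟨3, 3⟩, ⟨1, 2⟩, ⟨3, 4⟩], !![⟨0, 4⟩, ⟨3, 1⟩, ⟨4, 0⟩; ⟨4, 0⟩, ⟨4, 2⟩, ⟨3, 1⟩; ⟨0, 2⟩, ⟨3, 2⟩, ⟨4, 3⟩], !![⟨3, 4⟩, ⟨0, 0⟩, ⟨1, 1⟩; ⟨1, 2⟩, ⟨4, 1⟩, ⟨1, 4⟩; ⟨4, 0⟩, ⟨0, 3⟩, ⟨0, 1⟩], !![⟨4, 4⟩, ⟨1, 2⟩, ⟨1, 1⟩; ⟨2, 0⟩, ⟨2, 2⟩, ⟨2, 2⟩; ⟨4, 3⟩, ⟨3, 4⟩, ⟨2, 3⟩], !![⟨1, 0⟩, ⟨1, 1⟩, ⟨4, 0⟩; ⟨2, 3⟩, ⟨4, 4⟩, ⟨3, 3⟩; ⟨3, 0⟩, ⟨0, 1⟩, ⟨1, 1⟩], !![⟨1, 0⟩, ⟨2, 1⟩, ⟨1, 3⟩; ⟨3, 1⟩, ⟨0, 1⟩, ⟨2, 3⟩; ⟨4, 3⟩, ⟨2, 3⟩, ⟨2, 4⟩], !![⟨2, 0⟩, ⟨3, 1⟩, ⟨0, 0⟩; ⟨1, 2⟩, ⟨3, 3⟩, ⟨3, 1⟩; ⟨1, 4⟩, ⟨4, 2⟩, ⟨4, 1⟩], !![⟨2, 0⟩, ⟨0,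 2⟩, ⟨0, 0⟩; ⟨0, 2⟩, ⟨2, 0⟩, ⟨0, 0⟩; ⟨0, 0⟩, ⟨0, 0⟩, ⟨1, 0⟩], !![⟨2, 0⟩, ⟨4, 3⟩, ⟨2, 0⟩; ⟨4, 3⟩, ⟨4, 1⟩, ⟨1, 1⟩; ⟨2, 0⟩, ⟨1, 1⟩, ⟨4, 2⟩], !![⟨4, 0⟩, ⟨1, 3⟩, ⟨2, 4⟩; ⟨3, 1⟩, ⟨3, 4⟩, ⟨3, 4⟩; ⟨4, 2⟩, ⟨2, 2⟩, ⟨3, 4⟩], !![⟨4, 0⟩, ⟨3, 3⟩, ⟨1, 4⟩; ⟨4, 0⟩, ⟨2, 4⟩, ⟨1, 3⟩; ⟨2, 0⟩, ⟨0, 1⟩, ⟨1, 1⟩], !![⟨0, 1⟩, ⟨0, 2⟩, ⟨4, 0⟩; ⟨2, 4⟩, ⟨4, 2⟩, ⟨4, 0⟩; ⟨4, 0⟩, ⟨3, 3⟩, ⟨3, 0⟩]],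
  ![!![⟨0, 1⟩, ⟨1, 4⟩, ⟨3, 0⟩; ⟨2, 4⟩, ⟨0, 1⟩, ⟨2, 2⟩; ⟨3, 3⟩, ⟨2, 0⟩, ⟨3, 2⟩], !![⟨2, 1⟩, ⟨1, 3⟩, ⟨3, 2⟩; ⟨2, 0⟩, ⟨2, 0⟩, ⟨4, 2⟩; ⟨0, 0⟩, ⟨4, 4⟩, ⟨2, 4⟩], !![⟨2, 1⟩, ⟨2, 3⟩, ⟨0, 1⟩; ⟨2, 3⟩, ⟨4, 3⟩, ⟨3, 4⟩; ⟨4, 2⟩, ⟨2, 4⟩, ⟨2, 2⟩], !![⟨4, 1⟩, ⟨0, 1⟩, ⟨3, 0⟩; ⟨0, 1⟩, ⟨2, 0⟩, ⟨4, 1⟩; ⟨1, 1⟩, ⟨2, 0⟩, ⟨1, 3⟩], !![⟨4, 1⟩, ⟨0, 3⟩, ⟨0, 0⟩; ⟨4, 4⟩, ⟨4, 3⟩, ⟨2, 0⟩; ⟨0, 4⟩, ⟨2, 2⟩, ⟨3, 1⟩], !![⟨4, 1⟩, ⟨1, 4⟩, ⟨0, 4⟩; ⟨1, 4⟩, ⟨4, 1⟩, ⟨0, 4⟩; ⟨4, 2⟩, ⟨4, 2⟩, ⟨0, 0⟩], !![⟨0, 2⟩, ⟨2, 3⟩, ⟨1, 3⟩; ⟨0, 4⟩, ⟨2, 0⟩,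 ⟨1, 4⟩; ⟨4, 0⟩, ⟨3, 3⟩, ⟨1, 4⟩], !![⟨1, 2⟩, ⟨1, 0⟩, ⟨2, 1⟩; ⟨3, 2⟩, ⟨4, 3⟩, ⟨2, 4⟩; ⟨3, 1⟩, ⟨2, 1⟩, ⟨3, 1⟩], !![⟨2, 2⟩, ⟨2, 1⟩, ⟨1, 3⟩; ⟨4, 2⟩, ⟨1, 1⟩, ⟨1, 1⟩; ⟨2, 1⟩, ⟨0, 0⟩, ⟨4, 4⟩], !![⟨3, 2⟩, ⟨2, 0⟩, ⟨2, 3⟩; ⟨3, 1⟩, ⟨2, 3⟩, ⟨4, 2⟩; ⟨1, 3⟩, ⟨2, 3⟩, ⟨2, 4⟩], !![⟨4, 2⟩, ⟨1, 1⟩, ⟨4, 1⟩; ⟨0, 3⟩, ⟨2, 0⟩, ⟨0, 0⟩; ⟨2, 2⟩, ⟨1, 3⟩, ⟨2, 4⟩], !![⟨4, 2⟩, ⟨0, 3⟩, ⟨3, 2⟩; ⟨2, 3⟩, ⟨4, 0⟩, ⟨3, 0⟩; ⟨3, 4⟩, ⟨1, 3⟩, ⟨3, 3⟩], !![⟨4, 2⟩, ⟨2, 4⟩, ⟨1, 0⟩; ⟨1, 4⟩, ⟨1, 3⟩, ⟨4, 4⟩; ⟨4, 4⟩, ⟨4, 0⟩, ⟨2, 3⟩], !![⟨0, 3⟩, ⟨2,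 1⟩, ⟨0, 3⟩; ⟨0, 3⟩, ⟨2, 2⟩, ⟨4, 2⟩; ⟨0, 3⟩, ⟨1, 2⟩, ⟨1, 0⟩], !![⟨1, 3⟩, ⟨0, 3⟩, ⟨1, 0⟩; ⟨4, 0⟩, ⟨0, 4⟩, ⟨0, 2⟩; ⟨2, 4⟩, ⟨2, 2⟩, ⟨4, 3⟩], !![⟨2, 3⟩, ⟨1, 0⟩, ⟨1, 4⟩; ⟨4, 3⟩, ⟨3, 1⟩, ⟨3, 2⟩; ⟨2, 1⟩, ⟨0, 4⟩, ⟨3, 2⟩], !![⟨2, 3⟩, ⟨2, 0⟩, ⟨4, 0⟩; ⟨4, 3⟩, ⟨3, 0⟩, ⟨1, 4⟩; ⟨0, 2⟩, ⟨0, 4⟩, ⟨3, 2⟩], !![⟨2, 3⟩, ⟨2, 4⟩, ⟨0, 4⟩; ⟨4, 3⟩, ⟨1, 4⟩, ⟨2, 0⟩; ⟨2, 1⟩, ⟨0, 0⟩, ⟨4, 1⟩]],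
  ![!![⟨2, 4⟩, ⟨4, 0⟩, ⟨4, 3⟩; ⟨2, 1⟩, ⟨3, 1⟩, ⟨0, 3⟩; ⟨2, 1⟩, ⟨0, 1⟩, ⟨1, 0⟩], !![⟨2, 4⟩, ⟨1, 3⟩, ⟨1, 0⟩; ⟨1, 3⟩, ⟨3, 4⟩, ⟨3, 3⟩; ⟨3, 2⟩, ⟨1, 0⟩, ⟨4, 1⟩], !![⟨2, 4⟩, ⟨2, 4⟩, ⟨2, 4⟩; ⟨2, 4⟩, ⟨0, 4⟩, ⟨3, 2⟩; ⟨0, 2⟩, ⟨4, 0⟩, ⟨1, 3⟩], !![⟨3, 4⟩, ⟨1, 3⟩, ⟨2, 3⟩; ⟨1, 0⟩, ⟨4, 1⟩, ⟨3, 2⟩; ⟨1, 3⟩, ⟨2, 0⟩, ⟨4, 4⟩], !![⟨4, 4⟩, ⟨1, 3⟩, ⟨1, 1⟩; ⟨4, 1⟩, ⟨1, 1⟩, ⟨0, 4⟩; ⟨1, 3⟩, ⟨4, 1⟩, ⟨2, 0⟩], !![⟨0, 0⟩, ⟨2, 1⟩, ⟨1, 4⟩; ⟨0, 2⟩, ⟨2, 3⟩, ⟨0, 1⟩; ⟨1, 4⟩, ⟨1, 3⟩, ⟨1, 4⟩], !![⟨0, 0⟩, ⟨1, 2⟩, ⟨0, 1⟩; ⟨1, 2⟩, ⟨4, 1⟩,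 ⟨3, 0⟩; ⟨1, 3⟩, ⟨4, 4⟩, ⟨1, 4⟩], !![⟨2, 0⟩, ⟨2, 1⟩, ⟨0, 0⟩; ⟨4, 2⟩, ⟨3, 2⟩, ⟨2, 4⟩; ⟨2, 0⟩, ⟨1, 3⟩, ⟨4, 4⟩], !![⟨3, 0⟩, ⟨3, 2⟩, ⟨4, 0⟩; ⟨2, 2⟩, ⟨1, 0⟩, ⟨4, 4⟩; ⟨4, 0⟩, ⟨1, 4⟩, ⟨4, 0⟩], !![⟨4, 0⟩, ⟨1, 1⟩, ⟨2, 3⟩; ⟨1, 3⟩, ⟨0, 0⟩, ⟨0, 4⟩; ⟨3, 1⟩, ⟨0, 2⟩, ⟨3, 4⟩], !![⟨4, 0⟩, ⟨2, 3⟩, ⟨1, 1⟩; ⟨1, 2⟩, ⟨1, 4⟩, ⟨3, 0⟩; ⟨2, 1⟩, ⟨3, 2⟩, ⟨0, 1⟩], !![⟨4, 0⟩, ⟨2, 4⟩, ⟨4, 3⟩; ⟨1, 4⟩, ⟨0, 4⟩, ⟨1, 1⟩; ⟨1, 0⟩, ⟨4, 0⟩, ⟨1, 1⟩], !![⟨0, 1⟩, ⟨1, 0⟩, ⟨0, 2⟩; ⟨2, 4⟩, ⟨2, 1⟩, ⟨2, 1⟩; ⟨3, 3⟩, ⟨4, 3⟩, ⟨0, 2⟩], !![⟨0, 1⟩, ⟨1,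 1⟩, ⟨3, 0⟩; ⟨0, 3⟩, ⟨4, 0⟩, ⟨4, 3⟩; ⟨3, 3⟩, ⟨4, 0⟩, ⟨4, 4⟩], !![⟨1, 1⟩, ⟨2, 3⟩, ⟨2, 2⟩; ⟨4, 1⟩, ⟨0, 4⟩, ⟨4, 4⟩; ⟨1, 3⟩, ⟨0, 3⟩, ⟨4, 0⟩], !![⟨1, 1⟩, ⟨3, 3⟩, ⟨3, 2⟩; ⟨3, 2⟩, ⟨1, 2⟩, ⟨2, 4⟩; ⟨4, 0⟩, ⟨2, 4⟩, ⟨4, 2⟩], !![⟨2, 1⟩, ⟨4, 1⟩, ⟨0, 0⟩; ⟨4, 0⟩, ⟨4, 2⟩, ⟨3, 1⟩; ⟨4, 3⟩, ⟨2, 0⟩, ⟨1, 1⟩], !![⟨2, 1⟩, ⟨3, 4⟩, ⟨2, 1⟩; ⟨2, 1⟩, ⟨4, 3⟩, ⟨2, 2⟩; ⟨3, 1⟩, ⟨3, 2⟩, ⟨0, 1⟩]],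
  ![!![⟨3, 1⟩, ⟨2, 4⟩, ⟨0, 3⟩; ⟨3, 1⟩, ⟨3, 2⟩, ⟨4, 2⟩; ⟨2, 4⟩, ⟨0, 1⟩, ⟨4, 0⟩], !![⟨4, 1⟩, ⟨2, 2⟩, ⟨1, 0⟩; ⟨3, 2⟩, ⟨1, 3⟩, ⟨2, 1⟩; ⟨2, 2⟩, ⟨3, 4⟩, ⟨1, 2⟩], !![⟨0, 2⟩, ⟨0, 2⟩, ⟨3, 1⟩; ⟨4, 3⟩, ⟨0, 0⟩, ⟨1, 3⟩; ⟨2, 3⟩, ⟨1, 4⟩, ⟨3, 3⟩], !![⟨1, 2⟩, ⟨2, 1⟩, ⟨3, 3⟩; ⟨3, 0⟩, ⟨0, 0⟩, ⟨2, 4⟩; ⟨2, 0⟩, ⟨1, 4⟩, ⟨4, 3⟩], !![⟨1, 2⟩, ⟨3, 1⟩, ⟨3, 2⟩; ⟨2, 1⟩, ⟨3, 3⟩, ⟨0, 4⟩; ⟨2, 3⟩, ⟨4, 2⟩, ⟨2, 1⟩], !![⟨1, 2⟩, ⟨0, 3⟩, ⟨2, 3⟩; ⟨2, 4⟩, ⟨1, 3⟩, ⟨2, 2⟩; ⟨2, 3⟩, ⟨3, 2⟩, ⟨4, 1⟩], !![⟨1, 3⟩, ⟨1, 0⟩, ⟨0, 2⟩; ⟨4, 0⟩, ⟨4, 1⟩,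 ⟨2, 2⟩; ⟨3, 1⟩, ⟨1, 0⟩, ⟨1, 2⟩], !![⟨2, 3⟩, ⟨2, 0⟩, ⟨3, 3⟩; ⟨2, 3⟩, ⟨1, 1⟩, ⟨4, 0⟩; ⟨4, 1⟩, ⟨1, 2⟩, ⟨4, 1⟩], !![⟨2, 3⟩, ⟨0, 3⟩, ⟨4, 2⟩; ⟨4, 2⟩, ⟨2, 1⟩, ⟨2, 2⟩; ⟨0, 2⟩, ⟨3, 4⟩, ⟨3, 4⟩], !![⟨2, 3⟩, ⟨1, 4⟩, ⟨2, 3⟩; ⟨2, 3⟩, ⟨0, 1⟩, ⟨3, 4⟩; ⟨4, 1⟩, ⟨2, 0⟩, ⟨0, 4⟩], !![⟨3, 3⟩, ⟨4, 0⟩, ⟨1, 4⟩; ⟨1, 4⟩, ⟨4, 1⟩, ⟨4, 3⟩; ⟨4, 0⟩, ⟨3, 3⟩, ⟨4, 1⟩], !![⟨3, 3⟩, ⟨4, 4⟩, ⟨1, 0⟩; ⟨4, 4⟩, ⟨2, 0⟩, ⟨4, 3⟩; ⟨3, 2⟩, ⟨4, 2⟩, ⟨3, 1⟩], !![⟨4, 3⟩, ⟨2, 4⟩, ⟨2, 3⟩; ⟨2, 1⟩, ⟨3, 3⟩, ⟨0, 4⟩; ⟨3, 2⟩, ⟨1, 3⟩, ⟨3, 4⟩], !![⟨0, 4⟩, ⟨3,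 0⟩, ⟨1, 1⟩; ⟨2, 4⟩, ⟨4, 1⟩, ⟨0, 0⟩; ⟨4, 0⟩, ⟨0, 4⟩, ⟨2, 1⟩], !![⟨0, 4⟩, ⟨0, 1⟩, ⟨0, 0⟩; ⟨1, 1⟩, ⟨1, 1⟩, ⟨1, 3⟩; ⟨1, 4⟩, ⟨1, 4⟩, ⟨1, 2⟩], !![⟨0, 4⟩, ⟨3, 3⟩, ⟨2, 4⟩; ⟨4, 0⟩, ⟨0, 4⟩, ⟨0, 2⟩; ⟨0, 2⟩, ⟨2, 4⟩, ⟨0, 2⟩], !![⟨2, 4⟩, ⟨4, 4⟩, ⟨0, 0⟩; ⟨0, 3⟩, ⟨2, 3⟩, ⟨0, 4⟩; ⟨2, 4⟩, ⟨3, 3⟩, ⟨4, 3⟩], !![⟨4, 4⟩, ⟨3, 0⟩, ⟨1, 3⟩; ⟨2, 3⟩, ⟨2, 0⟩, ⟨2, 2⟩; ⟨4, 0⟩, ⟨1, 2⟩, ⟨2, 1⟩]],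
  ![!![⟨0, 0⟩, ⟨0, 0⟩, ⟨4, 0⟩; ⟨2, 1⟩, ⟨1, 1⟩, ⟨0, 0⟩; ⟨1, 4⟩, ⟨3, 1⟩, ⟨0, 0⟩], !![⟨0, 0⟩, ⟨1, 4⟩, ⟨2, 4⟩; ⟨4, 1⟩, ⟨1, 4⟩, ⟨1, 2⟩; ⟨3, 1⟩, ⟨1, 2⟩, ⟨3, 2⟩], !![⟨2, 0⟩, ⟨1, 0⟩, ⟨3, 3⟩; ⟨0, 4⟩, ⟨1, 1⟩, ⟨3, 0⟩; ⟨4, 1⟩, ⟨3, 3⟩, ⟨2, 2⟩], !![⟨3, 0⟩, ⟨1, 3⟩, ⟨4, 4⟩; ⟨4, 2⟩, ⟨3, 4⟩, ⟨2, 3⟩; ⟨1, 4⟩, ⟨1, 0⟩, ⟨3, 2⟩], !![⟨4, 0⟩, ⟨3, 0⟩, ⟨2, 2⟩; ⟨2, 2⟩, ⟨3, 0⟩, ⟨4, 0⟩; ⟨1, 1⟩, ⟨1, 2⟩, ⟨1, 1⟩], !![⟨0, 1⟩, ⟨3, 0⟩, ⟨1, 4⟩; ⟨0, 4⟩, ⟨3, 0⟩, ⟨1, 4⟩; ⟨0, 0⟩, ⟨4, 2⟩, ⟨0, 4⟩], !![⟨0, 1⟩, ⟨3, 1⟩, ⟨4, 0⟩; ⟨2, 4⟩, ⟨0, 2⟩,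 ⟨3, 4⟩; ⟨2, 3⟩, ⟨0, 2⟩, ⟨0, 4⟩], !![⟨0, 1⟩, ⟨2, 4⟩, ⟨4, 0⟩; ⟨3, 1⟩, ⟨0, 2⟩, ⟨2, 1⟩; ⟨2, 3⟩, ⟨0, 3⟩, ⟨0, 4⟩], !![⟨1, 1⟩, ⟨1, 0⟩, ⟨1, 0⟩; ⟨1, 2⟩, ⟨2, 4⟩, ⟨1, 0⟩; ⟨4, 4⟩, ⟨0, 4⟩, ⟨4, 1⟩], !![⟨1, 1⟩, ⟨1, 1⟩, ⟨4, 2⟩; ⟨4, 4⟩, ⟨4, 4⟩, ⟨4, 2⟩; ⟨1, 3⟩, ⟨4, 2⟩, ⟨0, 0⟩], !![⟨1, 1⟩, ⟨3, 2⟩, ⟨2, 3⟩; ⟨0, 1⟩, ⟨4, 0⟩, ⟨2, 4⟩; ⟨4, 1⟩, ⟨1, 4⟩, ⟨0, 4⟩], !![⟨2, 1⟩, ⟨0, 2⟩, ⟨3, 1⟩; ⟨3, 3⟩, ⟨4, 2⟩, ⟨2, 4⟩; ⟨0, 1⟩, ⟨3, 3⟩, ⟨0, 3⟩], !![⟨3, 1⟩, ⟨0, 3⟩, ⟨0, 2⟩; ⟨2, 2⟩, ⟨2, 4⟩, ⟨4, 2⟩; ⟨1, 2⟩, ⟨2, 1⟩, ⟨2, 2⟩], !![⟨3, 1⟩, ⟨3,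 4⟩, ⟨0, 2⟩; ⟨3, 2⟩, ⟨1, 1⟩, ⟨1, 0⟩; ⟨4, 3⟩, ⟨0, 0⟩, ⟨0, 4⟩], !![⟨4, 1⟩, ⟨3, 0⟩, ⟨1, 3⟩; ⟨0, 1⟩, ⟨3, 0⟩, ⟨3, 0⟩; ⟨1, 4⟩, ⟨4, 2⟩, ⟨2, 0⟩], !![⟨4, 1⟩, ⟨3, 3⟩, ⟨3, 3⟩; ⟨1, 0⟩, ⟨1, 4⟩, ⟨3, 2⟩; ⟨4, 0⟩, ⟨2, 3⟩, ⟨4, 1⟩], !![⟨1, 2⟩, ⟨2, 0⟩, ⟨1, 1⟩; ⟨3, 2⟩, ⟨3, 0⟩, ⟨3, 2⟩; ⟨3, 4⟩, ⟨1, 3⟩, ⟨2, 3⟩], !![⟨2, 2⟩, ⟨0, 0⟩, ⟨0, 0⟩; ⟨0, 0⟩, ⟨2, 2⟩, ⟨0, 0⟩; ⟨0, 0⟩, ⟨0, 0⟩, ⟨2, 2⟩]],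
  ![!![⟨2, 2⟩, ⟨0, 2⟩, ⟨1, 3⟩; ⟨2, 4⟩, ⟨1, 3⟩, ⟨4, 0⟩; ⟨1, 3⟩, ⟨3, 3⟩, ⟨3, 1⟩], !![⟨2, 2⟩, ⟨4, 4⟩, ⟨2, 2⟩; ⟨1, 2⟩, ⟨3, 2⟩, ⟨3, 4⟩; ⟨0, 2⟩, ⟨3, 3⟩, ⟨4, 2⟩], !![⟨3, 2⟩, ⟨0, 3⟩, ⟨0, 4⟩; ⟨2, 3⟩, ⟨1, 2⟩, ⟨3, 4⟩; ⟨3, 0⟩, ⟨4, 0⟩, ⟨3, 3⟩], !![⟨3, 2⟩, ⟨3, 3⟩, ⟨4, 4⟩; ⟨3, 2⟩, ⟨0, 3⟩, ⟨4, 3⟩; ⟨1, 1⟩, ⟨4, 2⟩, ⟨1, 1⟩], !![⟨3, 2⟩, ⟨2, 4⟩, ⟨0, 4⟩; ⟨0, 3⟩, ⟨0, 4⟩, ⟨3, 2⟩; ⟨0, 4⟩, ⟨2, 2⟩, ⟨2, 4⟩], !![⟨4, 2⟩, ⟨3, 0⟩, ⟨1, 4⟩; ⟨2, 1⟩, ⟨3, 3⟩, ⟨0, 1⟩; ⟨3, 2⟩, ⟨1, 0⟩, ⟨3, 0⟩], !![⟨1, 3⟩, ⟨4, 1⟩, ⟨4, 4⟩; ⟨2, 1⟩, ⟨3, 3⟩,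 ⟨0, 4⟩; ⟨2, 3⟩, ⟨2, 2⟩, ⟨1, 4⟩], !![⟨2, 3⟩, ⟨4, 0⟩, ⟨1, 4⟩; ⟨4, 4⟩, ⟨4, 4⟩, ⟨1, 2⟩; ⟨3, 2⟩, ⟨2, 2⟩, ⟨1, 1⟩], !![⟨2, 3⟩, ⟨4, 1⟩, ⟨2, 3⟩; ⟨2, 2⟩, ⟨1, 4⟩, ⟨1, 0⟩; ⟨3, 0⟩, ⟨4, 3⟩, ⟨4, 4⟩], !![⟨3, 3⟩, ⟨4, 1⟩, ⟨2, 3⟩; ⟨2, 3⟩, ⟨4, 0⟩, ⟨3, 0⟩; ⟨4, 4⟩, ⟨3, 2⟩, ⟨3, 2⟩], !![⟨4, 3⟩, ⟨0, 0⟩, ⟨0, 1⟩; ⟨3, 3⟩, ⟨1, 1⟩, ⟨3, 2⟩; ⟨3, 1⟩, ⟨2, 4⟩, ⟨0, 3⟩], !![⟨4, 3⟩, ⟨2, 0⟩, ⟨4, 1⟩; ⟨3, 1⟩, ⟨3, 2⟩, ⟨1, 3⟩; ⟨1, 0⟩, ⟨2, 3⟩, ⟨3, 0⟩], !![⟨0, 4⟩, ⟨3, 1⟩, ⟨2, 3⟩; ⟨3, 4⟩, ⟨1, 2⟩, ⟨3, 3⟩; ⟨1, 0⟩, ⟨1, 0⟩, ⟨4, 1⟩], !![⟨4, 4⟩, ⟨1,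 0⟩, ⟨1, 0⟩; ⟨0, 2⟩, ⟨3, 1⟩, ⟨3, 1⟩; ⟨0, 0⟩, ⟨0, 4⟩, ⟨0, 1⟩], !![⟨0, 0⟩, ⟨1, 2⟩, ⟨1, 2⟩; ⟨4, 1⟩, ⟨4, 0⟩, ⟨1, 0⟩; ⟨2, 1⟩, ⟨3, 1⟩, ⟨2, 4⟩], !![⟨1, 0⟩, ⟨2, 1⟩, ⟨4, 3⟩; ⟨2, 4⟩, ⟨0, 0⟩, ⟨1, 1⟩; ⟨4, 2⟩, ⟨1, 4⟩, ⟨3, 0⟩], !![⟨1, 0⟩, ⟨0, 2⟩, ⟨4, 2⟩; ⟨0, 3⟩, ⟨0, 0⟩, ⟨1, 1⟩; ⟨4, 3⟩, ⟨1, 4⟩, ⟨3, 0⟩], !![⟨1, 0⟩, ⟨3, 2⟩, ⟨1, 4⟩; ⟨3, 3⟩, ⟨2, 0⟩, ⟨1, 0⟩; ⟨1, 1⟩, ⟨1, 0⟩, ⟨1, 0⟩]],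
  ![!![⟨3, 0⟩, ⟨1, 2⟩, ⟨2, 0⟩; ⟨1, 4⟩, ⟨1, 4⟩, ⟨1, 3⟩; ⟨1, 3⟩, ⟨4, 1⟩, ⟨1, 4⟩], !![⟨3, 0⟩, ⟨1, 2⟩, ⟨1, 4⟩; ⟨3, 3⟩, ⟨3, 2⟩, ⟨4, 1⟩; ⟨4, 0⟩, ⟨0, 3⟩, ⟨4, 3⟩], !![⟨4, 0⟩, ⟨4, 3⟩, ⟨2, 1⟩; ⟨1, 0⟩, ⟨1, 1⟩, ⟨2, 3⟩; ⟨2, 0⟩, ⟨4, 1⟩, ⟨0, 4⟩], !![⟨1, 1⟩, ⟨3, 2⟩, ⟨2, 2⟩; ⟨3, 3⟩, ⟨1, 2⟩, ⟨0, 3⟩; ⟨2, 2⟩, ⟨2, 1⟩, ⟨4, 2⟩], !![⟨2, 1⟩, ⟨4, 2⟩, ⟨3, 3⟩; ⟨1, 4⟩, ⟨4, 1⟩, ⟨4, 3⟩; ⟨0, 0⟩, ⟨3, 0⟩, ⟨0, 2⟩], !![⟨3, 1⟩, ⟨4, 3⟩, ⟨2, 2⟩; ⟨4, 3⟩, ⟨2, 0⟩, ⟨1, 4⟩; ⟨4, 0⟩, ⟨4, 4⟩, ⟨2, 2⟩], !![⟨0, 2⟩, ⟨0, 2⟩, ⟨0, 2⟩; ⟨3, 4⟩, ⟨2, 4⟩,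 ⟨0, 2⟩; ⟨2, 4⟩, ⟨3, 4⟩, ⟨0, 2⟩], !![⟨0, 2⟩, ⟨0, 3⟩, ⟨2, 4⟩; ⟨1, 3⟩, ⟨0, 0⟩, ⟨0, 1⟩; ⟨1, 0⟩, ⟨2, 0⟩, ⟨2, 3⟩], !![⟨2, 2⟩, ⟨3, 1⟩, ⟨1, 2⟩; ⟨3, 3⟩, ⟨4, 2⟩, ⟨0, 3⟩; ⟨4, 1⟩, ⟨3, 2⟩, ⟨1, 0⟩], !![⟨3, 2⟩, ⟨2, 1⟩, ⟨4, 3⟩; ⟨3, 2⟩, ⟨4, 3⟩, ⟨2, 1⟩; ⟨2, 0⟩, ⟨4, 0⟩, ⟨4, 0⟩], !![⟨3, 2⟩, ⟨1, 3⟩, ⟨0, 3⟩; ⟨2, 3⟩, ⟨3, 0⟩, ⟨2, 2⟩; ⟨4, 1⟩, ⟨4, 4⟩, ⟨4, 3⟩], !![⟨4, 2⟩, ⟨0, 3⟩, ⟨4, 0⟩; ⟨1, 4⟩, ⟨0, 0⟩, ⟨3, 4⟩; ⟨4, 1⟩, ⟨1, 1⟩, ⟨1, 3⟩], !![⟨4, 2⟩, ⟨3, 3⟩, ⟨3, 4⟩; ⟨0, 3⟩, ⟨3, 1⟩, ⟨2, 4⟩; ⟨3, 2⟩, ⟨0, 1⟩, ⟨3, 4⟩], !![⟨4, 2⟩, ⟨2,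 4⟩, ⟨4, 0⟩; ⟨0, 3⟩, ⟨4, 3⟩, ⟨2, 2⟩; ⟨4, 0⟩, ⟨4, 0⟩, ⟨4, 1⟩], !![⟨0, 3⟩, ⟨3, 2⟩, ⟨1, 3⟩; ⟨3, 4⟩, ⟨0, 2⟩, ⟨0, 3⟩; ⟨0, 3⟩, ⟨4, 2⟩, ⟨2, 3⟩], !![⟨1, 3⟩, ⟨2, 4⟩, ⟨1, 0⟩; ⟨0, 2⟩, ⟨4, 3⟩, ⟨3, 3⟩; ⟨1, 0⟩, ⟨4, 0⟩, ⟨1, 4⟩], !![⟨2, 3⟩, ⟨0, 1⟩, ⟨2, 4⟩; ⟨1, 0⟩, ⟨3, 0⟩, ⟨2, 2⟩; ⟨3, 0⟩, ⟨1, 1⟩, ⟨1, 2⟩], !![⟨2, 3⟩, ⟨4, 2⟩, ⟨3, 1⟩; ⟨4, 1⟩, ⟨0, 0⟩, ⟨2, 4⟩; ⟨4, 0⟩, ⟨1, 2⟩, ⟨0, 2⟩]],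
  ![!![⟨3, 3⟩, ⟨4, 3⟩, ⟨3, 4⟩; ⟨0, 2⟩, ⟨2, 3⟩, ⟨0, 1⟩; ⟨1, 3⟩, ⟨0, 2⟩, ⟨2, 3⟩], !![⟨3, 3⟩, ⟨0, 4⟩, ⟨2, 1⟩; ⟨0, 4⟩, ⟨0, 2⟩, ⟨3, 3⟩; ⟨0, 2⟩, ⟨1, 0⟩, ⟨0, 4⟩], !![⟨3, 3⟩, ⟨0, 4⟩, ⟨3, 1⟩; ⟨2, 2⟩, ⟨1, 4⟩, ⟨1, 0⟩; ⟨4, 4⟩, ⟨2, 0⟩, ⟨1, 3⟩], !![⟨3, 3⟩, ⟨0, 4⟩, ⟨3, 4⟩; ⟨0, 4⟩, ⟨4, 0⟩, ⟨2, 4⟩; ⟨0, 3⟩, ⟨2, 1⟩, ⟨0, 3⟩], !![⟨4, 3⟩, ⟨4, 3⟩, ⟨0, 0⟩; ⟨2, 0⟩, ⟨3, 0⟩, ⟨0, 1⟩; ⟨1, 1⟩, ⟨4, 4⟩, ⟨4, 2⟩], !![⟨2, 4⟩, ⟨4, 0⟩, ⟨1, 3⟩; ⟨4, 2⟩, ⟨4, 4⟩, ⟨1, 4⟩; ⟨1, 0⟩, ⟨2, 3⟩, ⟨4, 4⟩], !![⟨2, 4⟩, ⟨2, 3⟩, ⟨0, 4⟩; ⟨0, 2⟩, ⟨4, 3⟩,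 ⟨2, 3⟩; ⟨3, 4⟩, ⟨3, 4⟩, ⟨0, 2⟩], !![⟨3, 4⟩, ⟨3, 4⟩, ⟨2, 1⟩; ⟨0, 1⟩, ⟨3, 3⟩, ⟨3, 4⟩; ⟨4, 0⟩, ⟨1, 2⟩, ⟨0, 2⟩], !![⟨4, 4⟩, ⟨3, 1⟩, ⟨0, 0⟩; ⟨1, 2⟩, ⟨4, 0⟩, ⟨0, 2⟩; ⟨4, 4⟩, ⟨4, 3⟩, ⟨4, 1⟩], !![⟨0, 0⟩, ⟨0, 1⟩, ⟨4, 3⟩; ⟨1, 2⟩, ⟨4, 4⟩, ⟨2, 0⟩; ⟨0, 1⟩, ⟨1, 4⟩, ⟨1, 1⟩], !![⟨0, 0⟩, ⟨4, 3⟩, ⟨1, 3⟩; ⟨1, 3⟩, ⟨2, 0⟩, ⟨1, 4⟩; ⟨1, 2⟩, ⟨4, 4⟩, ⟨3, 0⟩], !![⟨1, 0⟩, ⟨1, 0⟩, ⟨4, 4⟩; ⟨1, 2⟩, ⟨1, 1⟩, ⟨2, 0⟩; ⟨0, 3⟩, ⟨3, 3⟩, ⟨0, 1⟩], !![⟨1, 0⟩, ⟨3, 0⟩, ⟨3, 2⟩; ⟨4, 2⟩, ⟨0, 0⟩, ⟨0, 1⟩; ⟨0, 2⟩, ⟨0, 2⟩, ⟨3, 1⟩], !![⟨1, 0⟩, ⟨0,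 2⟩, ⟨1, 3⟩; ⟨1, 4⟩, ⟨1, 0⟩, ⟨4, 0⟩; ⟨4, 0⟩, ⟨1, 3⟩, ⟨0, 2⟩], !![⟨1, 0⟩, ⟨2, 4⟩, ⟨0, 4⟩; ⟨3, 4⟩, ⟨0, 4⟩, ⟨3, 2⟩; ⟨0, 4⟩, ⟨4, 0⟩, ⟨2, 1⟩], !![⟨3, 0⟩, ⟨0, 1⟩, ⟨3, 0⟩; ⟨2, 3⟩, ⟨0, 2⟩, ⟨1, 2⟩; ⟨4, 0⟩, ⟨3, 2⟩, ⟨4, 1⟩], !![⟨3, 0⟩, ⟨1, 1⟩, ⟨4, 2⟩; ⟨3, 2⟩, ⟨4, 4⟩, ⟨2, 2⟩; ⟨4, 0⟩, ⟨4, 2⟩, ⟨0, 3⟩], !![⟨3, 0⟩, ⟨1, 3⟩, ⟨4, 1⟩; ⟨4, 3⟩, ⟨0, 0⟩, ⟨1, 3⟩; ⟨4, 4⟩, ⟨4, 3⟩, ⟨3, 0⟩]],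
  ![!![⟨3, 0⟩, ⟨2, 3⟩, ⟨2, 3⟩; ⟨2, 2⟩, ⟨3, 0⟩, ⟨4, 0⟩; ⟨2, 2⟩, ⟨4, 0⟩, ⟨3, 0⟩], !![⟨4, 0⟩, ⟨1, 2⟩, ⟨2, 1⟩; ⟨2, 3⟩, ⟨1, 4⟩, ⟨3, 2⟩; ⟨1, 1⟩, ⟨3, 0⟩, ⟨0, 1⟩], !![⟨1, 1⟩, ⟨3, 3⟩, ⟨1, 0⟩; ⟨1, 3⟩, ⟨3, 2⟩, ⟨3, 1⟩; ⟨2, 0⟩, ⟨1, 1⟩, ⟨1, 2⟩], !![⟨2, 1⟩, ⟨3, 1⟩, ⟨3, 1⟩; ⟨3, 2⟩, ⟨4, 0⟩, ⟨2, 0⟩; ⟨4, 2⟩, ⟨4, 3⟩, ⟨0, 0⟩], !![⟨2, 1⟩, ⟨3, 1⟩, ⟨0, 2⟩; ⟨2, 3⟩, ⟨4, 2⟩, ⟨3, 4⟩; ⟨4, 3⟩, ⟨3, 2⟩, ⟨0, 3⟩], !![⟨3, 1⟩, ⟨2, 4⟩, ⟨3, 4⟩; ⟨3, 1⟩, ⟨0, 4⟩, ⟨3, 3⟩; ⟨3, 4⟩, ⟨2, 2⟩, ⟨4, 2⟩], !![⟨4, 1⟩, ⟨1, 3⟩, ⟨4, 1⟩; ⟨1, 3⟩, ⟨4, 4⟩,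 ⟨3, 0⟩; ⟨4, 1⟩, ⟨3, 0⟩, ⟨0, 1⟩], !![⟨0, 2⟩, ⟨1, 2⟩, ⟨3, 2⟩; ⟨2, 1⟩, ⟨2, 4⟩, ⟨0, 3⟩; ⟨0, 3⟩, ⟨3, 3⟩, ⟨0, 1⟩], !![⟨2, 2⟩, ⟨2, 1⟩, ⟨4, 3⟩; ⟨2, 0⟩, ⟨2, 2⟩, ⟨2, 2⟩; ⟨3, 3⟩, ⟨1, 2⟩, ⟨3, 4⟩], !![⟨3, 2⟩, ⟨3, 2⟩, ⟨3, 0⟩; ⟨2, 3⟩, ⟨4, 1⟩, ⟨1, 0⟩; ⟨1, 1⟩, ⟨3, 3⟩, ⟨3, 2⟩], !![⟨4, 2⟩, ⟨0, 2⟩, ⟨3, 3⟩; ⟨0, 3⟩, ⟨3, 4⟩, ⟨3, 1⟩; ⟨1, 0⟩, ⟨2, 1⟩, ⟨1, 3⟩], !![⟨4, 2⟩, ⟨2, 2⟩, ⟨3, 4⟩; ⟨2, 0⟩, ⟨3, 0⟩, ⟨4, 2⟩; ⟨2, 0⟩, ⟨2, 3⟩, ⟨3, 3⟩], !![⟨3, 3⟩, ⟨2, 2⟩, ⟨4, 4⟩; ⟨1, 2⟩, ⟨3, 0⟩, ⟨4, 1⟩; ⟨0, 2⟩, ⟨2, 3⟩, ⟨4, 2⟩], !![⟨0, 4⟩, ⟨3,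 4⟩, ⟨2, 2⟩; ⟨2, 1⟩, ⟨0, 3⟩, ⟨0, 2⟩; ⟨4, 0⟩, ⟨2, 4⟩, ⟨0, 1⟩], !![⟨1, 4⟩, ⟨4, 4⟩, ⟨1, 2⟩; ⟨2, 2⟩, ⟨0, 1⟩, ⟨0, 2⟩; ⟨2, 3⟩, ⟨4, 1⟩, ⟨4, 0⟩], !![⟨2, 4⟩, ⟨2, 2⟩, ⟨4, 2⟩; ⟨3, 4⟩, ⟨4, 3⟩, ⟨3, 3⟩; ⟨0, 3⟩, ⟨3, 1⟩, ⟨0, 2⟩], !![⟨2, 4⟩, ⟨2, 4⟩, ⟨0, 3⟩; ⟨0, 3⟩, ⟨1, 0⟩, ⟨4, 3⟩; ⟨2, 1⟩, ⟨1, 2⟩, ⟨3, 2⟩], !![⟨4, 4⟩, ⟨4, 1⟩, ⟨4, 2⟩; ⟨3, 0⟩, ⟨0, 0⟩, ⟨0, 3⟩; ⟨1, 3⟩, ⟨3, 1⟩, ⟨3, 3⟩]],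
  ![!![⟨4, 4⟩, ⟨3, 2⟩, ⟨4, 0⟩; ⟨2, 4⟩, ⟨0, 2⟩, ⟨3, 4⟩; ⟨0, 0⟩, ⟨4, 2⟩, ⟨4, 3⟩], !![⟨0, 0⟩, ⟨0, 0⟩, ⟨2, 3⟩; ⟨0, 0⟩, ⟨4, 0⟩, ⟨0, 0⟩; ⟨2, 2⟩, ⟨0, 0⟩, ⟨0, 0⟩], !![⟨0, 0⟩, ⟨2, 0⟩, ⟨0, 3⟩; ⟨2, 0⟩, ⟨3, 0⟩, ⟨0, 1⟩; ⟨0, 2⟩, ⟨0, 4⟩, ⟨1, 0⟩], !![⟨1, 0⟩, ⟨1, 3⟩, ⟨0, 2⟩; ⟨1, 2⟩, ⟨3, 0⟩, ⟨4, 1⟩; ⟨0, 3⟩, ⟨4, 4⟩, ⟨0, 0⟩], !![⟨2, 0⟩, ⟨2, 0⟩, ⟨1, 3⟩; ⟨2, 0⟩, ⟨2, 0⟩, ⟨4, 2⟩; ⟨1, 2⟩, ⟨4, 3⟩, ⟨0, 0⟩], !![⟨3, 0⟩, ⟨0, 0⟩, ⟨3, 4⟩; ⟨1, 1⟩, ⟨3, 0⟩, ⟨1, 2⟩; ⟨1, 2⟩, ⟨3, 4⟩, ⟨4, 0⟩], !![⟨4, 0⟩, ⟨1, 0⟩, ⟨2, 0⟩; ⟨4, 2⟩, ⟨1, 4⟩,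 ⟨4, 4⟩; ⟨2, 4⟩, ⟨2, 2⟩, ⟨0, 1⟩], !![⟨4, 0⟩, ⟨1, 2⟩, ⟨2, 4⟩; ⟨2, 3⟩, ⟨1, 4⟩, ⟨1, 0⟩; ⟨2, 0⟩, ⟨4, 1⟩, ⟨0, 1⟩], !![⟨1, 1⟩, ⟨1, 1⟩, ⟨4, 2⟩; ⟨2, 3⟩, ⟨4, 3⟩, ⟨3, 4⟩; ⟨3, 3⟩, ⟨4, 1⟩, ⟨2, 3⟩], !![⟨2, 1⟩, ⟨0, 1⟩, ⟨2, 2⟩; ⟨3, 4⟩, ⟨0, 0⟩, ⟨4, 4⟩; ⟨3, 1⟩, ⟨1, 3⟩, ⟨2, 3⟩], !![⟨4, 1⟩, ⟨2, 0⟩, ⟨1, 2⟩; ⟨1, 1⟩, ⟨0, 0⟩, ⟨2, 1⟩; ⟨4, 3⟩, ⟨0, 3⟩, ⟨3, 2⟩], !![⟨4, 1⟩, ⟨4, 1⟩, ⟨4, 3⟩; ⟨4, 1⟩, ⟨4, 1⟩, ⟨1, 2⟩; ⟨1, 2⟩, ⟨4, 3⟩, ⟨0, 0⟩], !![⟨4, 1⟩, ⟨2, 2⟩, ⟨2, 2⟩; ⟨3, 4⟩, ⟨0, 3⟩, ⟨0, 3⟩; ⟨0, 0⟩, ⟨1, 3⟩, ⟨4, 2⟩], !![⟨4, 1⟩, ⟨0,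 3⟩, ⟨0, 0⟩; ⟨0, 1⟩, ⟨3, 3⟩, ⟨3, 4⟩; ⟨4, 1⟩, ⟨0, 4⟩, ⟨2, 0⟩], !![⟨1, 2⟩, ⟨1, 0⟩, ⟨2, 1⟩; ⟨2, 0⟩, ⟨1, 1⟩, ⟨0, 4⟩; ⟨1, 4⟩, ⟨3, 2⟩, ⟨3, 2⟩], !![⟨2, 2⟩, ⟨3, 4⟩, ⟨1, 2⟩; ⟨2, 1⟩, ⟨0, 0⟩, ⟨1, 4⟩; ⟨0, 4⟩, ⟨3, 0⟩, ⟨1, 1⟩], !![⟨4, 2⟩, ⟨3, 4⟩, ⟨1, 0⟩; ⟨2, 0⟩, ⟨3, 3⟩, ⟨2, 2⟩; ⟨4, 4⟩, ⟨1, 2⟩, ⟨3, 0⟩], !![⟨0, 3⟩, ⟨0, 0⟩, ⟨2, 0⟩; ⟨0, 0⟩, ⟨2, 2⟩, ⟨0, 0⟩; ⟨1, 4⟩, ⟨0, 0⟩, ⟨2, 4⟩]],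
  ![!![⟨0, 3⟩, ⟨0, 2⟩, ⟨2, 4⟩; ⟨0, 3⟩, ⟨1, 3⟩, ⟨3, 2⟩; ⟨2, 4⟩, ⟨2, 3⟩, ⟨1, 2⟩], !![⟨3, 3⟩, ⟨3, 3⟩, ⟨3, 0⟩; ⟨2, 4⟩, ⟨1, 0⟩, ⟨0, 4⟩; ⟨1, 3⟩, ⟨2, 0⟩, ⟨3, 0⟩], !![⟨4, 3⟩, ⟨0, 3⟩, ⟨4, 0⟩; ⟨3, 2⟩, ⟨1, 3⟩, ⟨2, 1⟩; ⟨2, 1⟩, ⟨3, 2⟩, ⟨0, 4⟩], !![⟨1, 4⟩, ⟨4, 2⟩, ⟨1, 1⟩; ⟨4, 0⟩, ⟨3, 3⟩, ⟨4, 4⟩; ⟨3, 2⟩, ⟨3, 1⟩, ⟨1, 3⟩], !![⟨2, 4⟩, ⟨3, 1⟩, ⟨3, 4⟩; ⟨0, 4⟩, ⟨0, 0⟩, ⟨1, 2⟩; ⟨2, 3⟩, ⟨4, 1⟩, ⟨2, 2⟩], !![⟨3, 4⟩, ⟨0, 3⟩, ⟨0, 2⟩; ⟨4, 0⟩, ⟨1, 3⟩, ⟨3, 1⟩; ⟨4, 3⟩, ⟨3, 2⟩, ⟨2, 4⟩], !![⟨0, 0⟩, ⟨2, 0⟩, ⟨3, 4⟩; ⟨2, 1⟩, ⟨4, 3⟩,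 ⟨4, 0⟩; ⟨2, 0⟩, ⟨4, 4⟩, ⟨1, 2⟩], !![⟨0, 0⟩, ⟨0, 2⟩, ⟨3, 0⟩; ⟨1, 4⟩, ⟨1, 3⟩, ⟨4, 4⟩; ⟨3, 1⟩, ⟨3, 3⟩, ⟨4, 2⟩], !![⟨0, 0⟩, ⟨4, 2⟩, ⟨0, 4⟩; ⟨0, 1⟩, ⟨4, 1⟩, ⟨4, 4⟩; ⟨4, 2⟩, ⟨3, 0⟩, ⟨1, 4⟩], !![⟨0, 0⟩, ⟨1, 3⟩, ⟨0, 4⟩; ⟨0, 4⟩, ⟨4, 1⟩, ⟨1, 1⟩; ⟨4, 2⟩, ⟨2, 0⟩, ⟨1, 4⟩], !![⟨0, 1⟩, ⟨1, 1⟩, ⟨3, 0⟩; ⟨0, 3⟩, ⟨0, 4⟩, ⟨3, 2⟩; ⟨2, 2⟩, ⟨1, 4⟩, ⟨2, 3⟩], !![⟨1, 1⟩, ⟨0, 0⟩, ⟨2, 4⟩; ⟨1, 4⟩, ⟨1, 1⟩, ⟨0, 1⟩; ⟨0, 1⟩, ⟨2, 4⟩, ⟨3, 3⟩], !![⟨1, 1⟩, ⟨2, 0⟩, ⟨4, 2⟩; ⟨1, 0⟩, ⟨1, 2⟩, ⟨2, 4⟩; ⟨2, 2⟩, ⟨4, 4⟩, ⟨3, 2⟩], !![⟨1, 1⟩, ⟨3,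 0⟩, ⟨4, 3⟩; ⟨0, 0⟩, ⟨1, 1⟩, ⟨0, 3⟩; ⟨0, 3⟩, ⟨4, 3⟩, ⟨3, 3⟩], !![⟨2, 1⟩, ⟨4, 2⟩, ⟨3, 3⟩; ⟨2, 3⟩, ⟨2, 0⟩, ⟨2, 2⟩; ⟨0, 4⟩, ⟨1, 1⟩, ⟨4, 4⟩], !![⟨1, 2⟩, ⟨0, 2⟩, ⟨2, 3⟩; ⟨3, 1⟩, ⟨1, 3⟩, ⟨3, 3⟩; ⟨2, 3⟩, ⟨2, 3⟩, ⟨4, 1⟩], !![⟨1, 2⟩, ⟨3, 4⟩, ⟨3, 2⟩; ⟨2, 1⟩, ⟨2, 4⟩, ⟨0, 3⟩; ⟨2, 2⟩, ⟨3, 1⟩, ⟨4, 3⟩], !![⟨3, 2⟩, ⟨1, 0⟩, ⟨1, 1⟩; ⟨0, 4⟩, ⟨3, 0⟩, ⟨1, 4⟩; ⟨3, 4⟩, ⟨4, 0⟩, ⟨4, 3⟩]],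
  ![!![⟨3, 2⟩, ⟨4, 2⟩, ⟨0, 3⟩; ⟨2, 2⟩, ⟨1, 1⟩, ⟨3, 3⟩; ⟨3, 0⟩, ⟨1, 4⟩, ⟨1, 2⟩], !![⟨3, 3⟩, ⟨0, 1⟩, ⟨0, 2⟩; ⟨1, 0⟩, ⟨3, 0⟩, ⟨2, 2⟩; ⟨4, 4⟩, ⟨2, 0⟩, ⟨4, 2⟩], !![⟨3, 3⟩, ⟨2, 3⟩, ⟨3, 0⟩; ⟨4, 3⟩, ⟨1, 4⟩, ⟨1, 1⟩; ⟨0, 2⟩, ⟨3, 2⟩, ⟨1, 3⟩], !![⟨0, 4⟩, ⟨2, 0⟩, ⟨1, 1⟩; ⟨3, 1⟩, ⟨0, 0⟩, ⟨3, 0⟩; ⟨1, 0⟩, ⟨0, 3⟩, ⟨4, 2⟩], !![⟨1, 4⟩, ⟨0, 0⟩, ⟨0, 2⟩; ⟨3, 0⟩, ⟨1, 4⟩, ⟨4, 2⟩; ⟨4, 2⟩, ⟨0, 2⟩, ⟨3, 2⟩], !![⟨2, 4⟩, ⟨4, 3⟩, ⟨2, 3⟩; ⟨3, 0⟩, ⟨2, 0⟩, ⟨0, 4⟩; ⟨0, 0⟩, ⟨4, 4⟩, ⟨2, 1⟩], !![⟨3, 4⟩, ⟨2, 1⟩, ⟨0, 2⟩; ⟨4, 3⟩, ⟨0, 0⟩,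 ⟨4, 2⟩; ⟨2, 2⟩, ⟨4, 4⟩, ⟨1, 0⟩], !![⟨0, 0⟩, ⟨0, 4⟩, ⟨4, 3⟩; ⟨4, 3⟩, ⟨4, 4⟩, ⟨3, 0⟩; ⟨0, 1⟩, ⟨4, 1⟩, ⟨1, 1⟩], !![⟨0, 0⟩, ⟨4, 4⟩, ⟨2, 4⟩; ⟨3, 1⟩, ⟨0, 4⟩, ⟨3, 3⟩; ⟨4, 4⟩, ⟨4, 1⟩, ⟨0, 1⟩], !![⟨1, 0⟩, ⟨1, 2⟩, ⟨3, 4⟩; ⟨1, 3⟩, ⟨3, 0⟩, ⟨1, 4⟩; ⟨3, 1⟩, ⟨1, 1⟩, ⟨0, 0⟩], !![⟨0, 1⟩, ⟨0, 3⟩, ⟨3, 2⟩; ⟨3, 0⟩, ⟨0, 0⟩, ⟨2, 4⟩; ⟨4, 4⟩, ⟨1, 1⟩, ⟨0, 4⟩], !![⟨2, 1⟩, ⟨3, 0⟩, ⟨0, 0⟩; ⟨4, 2⟩, ⟨2, 0⟩, ⟨4, 1⟩; ⟨2, 2⟩, ⟨0, 1⟩, ⟨2, 4⟩], !![⟨3, 2⟩, ⟨2, 3⟩, ⟨4, 1⟩; ⟨0, 1⟩, ⟨1, 1⟩, ⟨2, 0⟩; ⟨3, 4⟩, ⟨1, 0⟩, ⟨1, 2⟩], !![⟨2, 3⟩, ⟨2,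 4⟩, ⟨0, 1⟩; ⟨3, 1⟩, ⟨0, 0⟩, ⟨3, 0⟩; ⟨1, 3⟩, ⟨1, 1⟩, ⟨1, 4⟩], !![⟨3, 3⟩, ⟨0, 1⟩, ⟨3, 1⟩; ⟨1, 0⟩, ⟨3, 0⟩, ⟨4, 0⟩; ⟨1, 4⟩, ⟨1, 1⟩, ⟨4, 2⟩], !![⟨1, 4⟩, ⟨1, 1⟩, ⟨0, 4⟩; ⟨0, 0⟩, ⟨1, 4⟩, ⟨2, 1⟩; ⟨2, 1⟩, ⟨0, 4⟩, ⟨3, 2⟩], !![⟨0, 0⟩, ⟨1, 2⟩, ⟨1, 3⟩; ⟨4, 2⟩, ⟨2, 0⟩, ⟨4, 1⟩; ⟨1, 2⟩, ⟨1, 1⟩, ⟨3, 0⟩], !![⟨3, 0⟩, ⟨1, 4⟩, ⟨1, 3⟩; ⟨0, 0⟩, ⟨3, 0⟩, ⟨3, 1⟩; ⟨3, 1⟩, ⟨1, 3⟩, ⟨4, 0⟩]],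
  ![!![⟨0, 3⟩, ⟨1, 2⟩, ⟨1, 0⟩; ⟨0, 2⟩, ⟨0, 0⟩, ⟨2, 0⟩; ⟨2, 1⟩, ⟨0, 4⟩, ⟨2, 2⟩], !![⟨4, 0⟩, ⟨2, 2⟩, ⟨1, 4⟩; ⟨1, 3⟩, ⟨1, 1⟩, ⟨3, 0⟩; ⟨2, 4⟩, ⟨3, 3⟩, ⟨0, 4⟩], 1, 1, 1, 1, 1, 1, 1, 1, 1, 1, 1, 1, 1, 1, 1, 1]]

/-- Elements of the group, each after its parent. -/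
def nodes (i : Fin 308) : M25 := nodesChunk ⟨i.1 / 18, by omega⟩ ⟨i.1 % 18, by omega⟩

def stepsChunk : Fin 18 → Fin 18 → Fin 308 × Bool := ![
  ![(0, true), (0, false), (0, true), (2, false), (1, false), (1, true), (2, true), (6, false), (3, true), (5, false), (4, true), (3, false), (5, true), (4, false), (9, false), (12, false), (13, true), (10, false)],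
  ![(7, true), (10, true), (11, false), (8, false), (11, true), (9, true), (8, true), (13, false), (18, false), (15, false), (14, true), (22, false), (20, false), (18, true), (19, false), (23, true), (21, true), (14, false)],
  ![(24, false), (21, false), (25, false), (25, true), (17, false), (17, true), (22, true), (16, false), (23, false), (15, true), (29, true), (41, false), (39, true), (39, false), (43, true), (34, false), (27, false), (31, false)],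
  ![(26, false), (37, false), (45, false), (28, true), (36, false), (32, false), (28, false), (33, false), (38, false), (36, true), (44, true), (42, false), (30, true), (40, true), (29, false), (35, true), (41, true), (55, true)],
  ![(58, true), (69, false), (49, true), (68, false), (46, false), (58, false), (52, false), (63, false), (62, false), (46, true), (60, false), (50, false), (53, false), (50, true), (56, true), (66, false), (61, true), (47, true)],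
  ![(54, true), (48, false), (67, true), (51, false), (59, true), (64, false), (54, false), (57, false), (70, false), (65, false), (79, false), (83, true), (94, false), (72, false), (71, true), (96, true), (92, false), (86, false)],
  ![(74, false), (76, false), (74, true), (91, true), (81, false), (99, true), (77, false), (85, false), (84, false), (95, true), (98, false), (90, false), (88, true), (73, true), (89, true), (78, true), (93, false), (79, true)],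
  ![(82, false), (75, true), (87, true), (80, false), (97, false), (119, true), (116, false), (104, false), (111, false), (100, false), (130, false), (106, false), (128, false), (115, false), (123, false), (121, false), (124, false), (127, false)],
  ![(103, false), (125, false), (129, false), (120, false), (122, false), (109, false), (107, true), (117, false), (102, true), (113, false), (126, true), (108, false), (112, true), (101, true), (105, true), (114, true), (118, false), (110, false)],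
  ![(155, false), (158, false), (153, true), (161, false), (154, false), (145, false), (131, false), (133, false), (151, true), (138, true), (148, false), (137, false), (142, true), (136, true), (134, false), (135, true), (150, false), (146, false)],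
  ![(147, false), (139, false), (143, true), (160, false), (132, true), (157, false), (159, false), (144, true), (156, true), (141, false), (149, true), (140, true), (152, false), (160, true), (174, false), (162, true), (169, true), (163, false)],
  ![(175, false), (180, false), (184, false), (164, false), (171, false), (182, false), (178, true), (193, false), (190, false), (192, true), (191, true), (167, true), (173, false), (165, true), (166, true), (183, true), (185, false), (177, false)],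
  ![(189, true), (188, false), (186, true), (170, false), (168, true), (176, false), (187, false), (172, true), (181, true), (196, false), (205, true), (215, false), (210, true), (203, true), (209, false), (201, true), (220, false), (212, true)],
  ![(202, false), (199, true), (198, false), (213, false), (194, true), (214, false), (222, false), (223, false), (217, false), (219, false), (224, false), (204, false), (207, false), (197, true), (221, false), (195, true), (211, false), (206, true)],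
  ![(216, false), (228, false), (252, true), (238, true), (241, false), (239, false), (248, true), (251, true), (243, false), (247, false), (232, false), (227, false), (249, false), (240, false), (242, false), (244, true), (231, false), (233, false)],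
  ![(250, true), (237, false), (229, true), (230, false), (236, true), (245, false), (259, false), (271, false), (267, false), (274, true), (266, false), (270, false), (268, true), (275, false), (260, false), (255, false), (265, false), (272, false)],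
  ![(273, true), (262, true), (261, true), (269, false), (256, true), (263, false), (264, false), (294, true), (289, false), (280, true), (277, false), (291, false), (282, true), (286, true), (285, false), (276, true), (301, false), (296, true)],
  ![(298, true), (306, true), (0, true), (0, true), (0, true), (0, true), (0, true), (0, true), (0, true), (0, true), (0, true), (0, true), (0, true), (0, true), (0, true), (0, true), (0, true), (0, true)]]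

/-- Parent and generator of each element. -/
def steps (i : Fin 308) : Fin 308 × Bool := stepsChunk ⟨i.1 / 18, by omega⟩ ⟨i.1 % 18, by omega⟩

def eightIdx : Fin 8 → Fin 308 := ![0, 253, 254, 297, 197, 234, 299, 293]

def eightTable : Fin 8 → Fin 8 → Fin 8 := ![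
  ![0, 1, 2, 3, 4, 5, 6, 7],
  ![1, 0, 7, 6, 5, 4, 3, 2],
  ![2, 6, 0, 5, 7, 3, 1, 4],
  ![3, 7, 5, 0, 6, 2, 4, 1],
  ![4, 5, 6, 7, 0, 1, 2, 3],
  ![5, 4, 3, 2, 1, 0, 7, 6],
  ![6, 2, 4, 1, 3, 7, 5, 0],
  ![7, 3, 1, 4, 2, 6, 0, 5]]

def twentySevenIdx : Fin 27 → Fin 308 := ![0, 225, 304, 278, 279, 226, 295, 257, 305, 258, 235, 307, 200, 281, 283, 179, 287, 288, 208, 300, 38, 302, 246, 290, 218, 292, 303]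

def twentySevenTable : Fin 27 → Fin 27 → Fin 27 := ![
  ![0, 1, 2, 3, 4, 5, 6, 7, 8, 9, 10, 11, 12, 13, 14, 15, 16, 17, 18, 19, 20, 21, 22, 23, 24, 25, 26],
  ![1, 4, 6, 5, 0, 15, 20, 18, 23, 14, 25, 22, 17, 12, 16, 3, 9, 13, 21, 8, 2, 7, 26, 19, 10, 24, 11],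
  ![2, 6, 5, 4, 20, 0, 15, 24, 11, 8, 13, 9, 21, 18, 23, 1, 19, 7, 10, 26, 3, 25, 14, 22, 17, 12, 16],
  ![3, 5, 4, 6, 15, 20, 0, 12, 16, 26, 7, 19, 10, 24, 11, 2, 22, 25, 17, 14, 1, 13, 8, 9, 21, 18, 23],
  ![4, 0, 20, 15, 1, 3, 2, 21, 19, 16, 24, 26, 13, 17, 9, 5, 14, 12, 7, 23, 6, 18, 11, 8, 25, 10, 22],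
  ![5, 15, 0, 20, 3, 2, 1, 17, 9, 11, 18, 8, 25, 10, 22, 6, 26, 24, 13, 16, 4, 12, 23, 14, 7, 21, 19],
  ![6, 20, 15, 0, 2, 1, 3, 10, 22, 23, 12, 14, 7, 21, 19, 4, 8, 18, 25, 11, 5, 24, 16, 26, 13, 17, 9],
  ![7, 24, 12, 18, 17, 10, 21, 8, 0, 6, 19, 3, 23, 14, 15, 13, 1, 22, 11, 5, 25, 9, 4, 2, 16, 26, 20],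
  ![8, 16, 23, 11, 22, 19, 9, 0, 7, 21, 5, 18, 2, 15, 13, 14, 24, 4, 3, 10, 26, 6, 17, 12, 1, 20, 25],
  ![9, 26, 14, 8, 23, 16, 11, 5, 17, 12, 2, 13, 0, 6, 10, 22, 7, 3, 20, 18, 19, 1, 24, 25, 15, 4, 21],
  ![10, 13, 7, 25, 18, 12, 24, 22, 6, 3, 11, 0, 26, 19, 4, 21, 20, 16, 14, 1, 17, 23, 2, 15, 8, 9, 5],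
  ![11, 19, 22, 9, 14, 26, 8, 2, 24, 25, 0, 10, 5, 1, 18, 23, 17, 20, 4, 13, 16, 15, 7, 21, 6, 3, 12],
  ![12, 21, 10, 17, 25, 7, 13, 16, 3, 0, 14, 6, 9, 11, 2, 24, 5, 8, 19, 20, 18, 26, 15, 4, 22, 23, 1],
  ![13, 18, 24, 12, 10, 21, 17, 14, 15, 4, 9, 2, 16, 26, 20, 25, 3, 19, 23, 6, 7, 22, 5, 1, 11, 8, 0],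
  ![14, 11, 16, 23, 19, 9, 22, 15, 13, 17, 6, 12, 1, 20, 25, 26, 18, 5, 2, 21, 8, 4, 10, 24, 3, 0, 7],
  ![15, 3, 1, 2, 5, 6, 4, 13, 14, 22, 21, 23, 24, 25, 26, 20, 11, 10, 12, 9, 0, 17, 19, 16, 18, 7, 8],
  ![16, 22, 9, 19, 8, 14, 26, 3, 12, 13, 20, 17, 4, 2, 24, 11, 21, 15, 6, 7, 23, 0, 25, 10, 5, 1, 18],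
  ![17, 7, 25, 13, 24, 18, 12, 9, 5, 1, 16, 20, 14, 22, 6, 10, 15, 23, 8, 2, 21, 11, 3, 0, 26, 19, 4],
  ![18, 10, 17, 21, 13, 25, 7, 23, 1, 20, 8, 5, 19, 16, 3, 12, 4, 26, 22, 15, 24, 14, 0, 6, 9, 11, 2],
  ![19, 14, 8, 26, 11, 23, 16, 4, 21, 18, 3, 7, 20, 5, 17, 9, 25, 1, 15, 24, 22, 2, 12, 13, 0, 6, 10],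
  ![20, 2, 3, 1, 6, 4, 5, 25, 26, 19, 17, 16, 18, 7, 8, 0, 23, 21, 24, 22, 15, 10, 9, 11, 12, 13, 14],
  ![21, 25, 13, 7, 12, 24, 18, 19, 4, 2, 23, 15, 8, 9, 5, 17, 0, 11, 26, 3, 10, 16, 1, 20, 14, 22, 6],
  ![22, 8, 26, 14, 16, 11, 23, 6, 10, 24, 1, 25, 15, 4, 21, 19, 13, 2, 0, 12, 9, 3, 18, 7, 20, 5, 17],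
  ![23, 9, 19, 22, 26, 8, 14, 1, 18, 7, 15, 21, 6, 3, 12, 16, 10, 0, 5, 25, 11, 20, 13, 17, 4, 2, 24],
  ![24, 17, 21, 10, 7, 13, 25, 11, 2, 15, 26, 4, 22, 23, 1, 18, 6, 14, 9, 0, 12, 8, 20, 5, 19, 16, 3],
  ![25, 12, 18, 24, 21, 17, 10, 26, 20, 5, 22, 1, 11, 8, 0, 7, 2, 9, 16, 4, 13, 19, 6, 3, 23, 14, 15],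
  ![26, 23, 11, 16, 9, 22, 19, 20, 25, 10, 4, 24, 3, 0, 7, 8, 12, 6, 1, 17, 14, 5, 21, 18, 2, 15, 13]]

def order5Idx : Fin 308 := 284

def order7Idx : Fin 308 := 3

/-- An invariant set of lines of norm one. -/
def orbVec : Fin 105 → Fin 3 → R25 := ![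
  ![⟨0, 0⟩, ⟨1, 0⟩, ⟨0, 0⟩],
  ![⟨1, 0⟩, ⟨0, 4⟩, ⟨2, 1⟩],
  ![⟨0, 1⟩, ⟨0, 0⟩, ⟨4, 2⟩],
  ![⟨2, 1⟩, ⟨0, 4⟩, ⟨3, 3⟩],
  ![⟨1, 0⟩, ⟨1, 4⟩, ⟨1, 0⟩],
  ![⟨2, 1⟩, ⟨3, 1⟩, ⟨2, 4⟩],
  ![⟨1, 0⟩, ⟨4, 4⟩, ⟨3, 3⟩],
  ![⟨0, 1⟩, ⟨0, 3⟩, ⟨4, 0⟩],
  ![⟨0, 1⟩, ⟨4, 0⟩, ⟨2, 1⟩],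
  ![⟨1, 0⟩, ⟨3, 0⟩, ⟨4, 0⟩],
  ![⟨1, 0⟩, ⟨1, 1⟩, ⟨3, 3⟩],
  ![⟨1, 0⟩, ⟨0, 1⟩, ⟨2, 4⟩],
  ![⟨2, 1⟩, ⟨4, 2⟩, ⟨2, 3⟩],
  ![⟨0, 1⟩, ⟨1, 1⟩, ⟨1, 4⟩],
  ![⟨0, 1⟩, ⟨2, 2⟩, ⟨0, 3⟩],
  ![⟨1, 0⟩, ⟨0, 4⟩, ⟨2, 4⟩],
  ![⟨1, 0⟩, ⟨2, 2⟩, ⟨2, 0⟩],
  ![⟨0, 1⟩, ⟨0, 2⟩, ⟨3, 2⟩],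
  ![⟨1, 0⟩, ⟨2, 3⟩, ⟨1, 4⟩],
  ![⟨2, 1⟩, ⟨4, 3⟩, ⟨2, 3⟩],
  ![⟨2, 0⟩, ⟨3, 0⟩, ⟨0, 4⟩],
  ![⟨2, 1⟩, ⟨1, 0⟩, ⟨0, 1⟩],
  ![⟨2, 0⟩, ⟨4, 3⟩, ⟨4, 4⟩],
  ![⟨0, 1⟩, ⟨2, 0⟩, ⟨4, 1⟩],
  ![⟨2, 1⟩, ⟨1, 3⟩, ⟨2, 3⟩],
  ![⟨2, 1⟩, ⟨0, 0⟩, ⟨2, 0⟩],
  ![⟨2, 0⟩, ⟨4, 2⟩, ⟨1, 1⟩],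
  ![⟨0, 1⟩, ⟨4, 0⟩, ⟨3, 4⟩],
  ![⟨2, 0⟩, ⟨1, 2⟩, ⟨4, 4⟩],
  ![⟨0, 1⟩, ⟨3, 0⟩, ⟨1, 1⟩],
  ![⟨1, 0⟩, ⟨1, 1⟩, ⟨3, 2⟩],
  ![⟨1, 0⟩, ⟨4, 1⟩, ⟨2, 2⟩],
  ![⟨2, 0⟩, ⟨2, 0⟩, ⟨1, 3⟩],
  ![⟨2, 1⟩, ⟨1, 2⟩, ⟨4, 0⟩],
  ![⟨1, 0⟩, ⟨0, 4⟩, ⟨0, 2⟩],
  ![⟨0, 1⟩, ⟨4, 1⟩, ⟨3, 0⟩],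
  ![⟨2, 1⟩, ⟨0, 3⟩, ⟨3, 1⟩],
  ![⟨2, 0⟩, ⟨2, 0⟩, ⟨0, 4⟩],
  ![⟨2, 0⟩, ⟨3, 0⟩, ⟨1, 3⟩],
  ![⟨2, 1⟩, ⟨2, 3⟩, ⟨1, 3⟩],
  ![⟨1, 0⟩, ⟨3, 4⟩, ⟨4, 3⟩],
  ![⟨1, 0⟩, ⟨3, 3⟩, ⟨2, 0⟩],
  ![⟨2, 0⟩, ⟨1, 1⟩, ⟨1, 2⟩],
  ![⟨0, 1⟩, ⟨3, 0⟩, ⟨4, 1⟩],
  ![⟨2, 0⟩, ⟨1, 4⟩, ⟨0, 1⟩],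
  ![⟨2, 1⟩, ⟨0, 2⟩, ⟨3, 1⟩],
  ![⟨0, 1⟩, ⟨3, 3⟩, ⟨0, 3⟩],
  ![⟨0, 1⟩, ⟨0, 3⟩, ⟨3, 2⟩],
  ![⟨0, 1⟩, ⟨1, 0⟩, ⟨3, 4⟩],
  ![⟨1, 0⟩, ⟨1, 4⟩, ⟨2, 2⟩],
  ![⟨0, 1⟩, ⟨0, 2⟩, ⟨4, 0⟩],
  ![⟨2, 1⟩, ⟨0, 0⟩, ⟨4, 4⟩],
  ![⟨1, 0⟩, ⟨1, 3⟩, ⟨2, 1⟩],
  ![⟨2, 1⟩, ⟨4, 3⟩, ⟨4, 0⟩],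
  ![⟨2, 1⟩, ⟨3, 3⟩, ⟨1, 2⟩],
  ![⟨2, 0⟩, ⟨3, 3⟩, ⟨4, 0⟩],
  ![⟨1, 0⟩, ⟨0, 1⟩, ⟨2, 1⟩],
  ![⟨1, 0⟩, ⟨4, 4⟩, ⟨3, 2⟩],
  ![⟨1, 0⟩, ⟨3, 1⟩, ⟨0, 4⟩],
  ![⟨2, 0⟩, ⟨0, 0⟩, ⟨3, 4⟩],
  ![⟨0, 1⟩, ⟨2, 0⟩, ⟨1, 1⟩],
  ![⟨1, 0⟩, ⟨4, 1⟩, ⟨1, 0⟩],
  ![⟨2, 1⟩, ⟨2, 4⟩, ⟨2, 4⟩],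
  ![⟨0, 1⟩, ⟨4, 4⟩, ⟨1, 4⟩],
  ![⟨1, 0⟩, ⟨2, 0⟩, ⟨4, 0⟩],
  ![⟨1, 0⟩, ⟨3, 2⟩, ⟨1, 4⟩],
  ![⟨0, 0⟩, ⟨2, 0⟩, ⟨2, 1⟩],
  ![⟨1, 0⟩, ⟨1, 2⟩, ⟨2, 1⟩],
  ![⟨0, 1⟩, ⟨2, 0⟩, ⟨2, 0⟩],
  ![⟨2, 1⟩, ⟨0, 1⟩, ⟨2, 3⟩],
  ![⟨2, 0⟩, ⟨2, 3⟩, ⟨2, 3⟩],
  ![⟨2, 0⟩, ⟨4, 1⟩, ⟨0, 1⟩],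
  ![⟨0, 1⟩, ⟨2, 3⟩, ⟨2, 4⟩],
  ![⟨0, 0⟩, ⟨2, 0⟩, ⟨3, 4⟩],
  ![⟨2, 1⟩, ⟨3, 3⟩, ⟨4, 3⟩],
  ![⟨2, 1⟩, ⟨2, 2⟩, ⟨4, 3⟩],
  ![⟨2, 0⟩, ⟨3, 2⟩, ⟨2, 3⟩],
  ![⟨2, 1⟩, ⟨0, 0⟩, ⟨1, 4⟩],
  ![⟨1, 0⟩, ⟨3, 0⟩, ⟨2, 3⟩],
  ![⟨1, 0⟩, ⟨2, 0⟩, ⟨2, 3⟩],
  ![⟨0, 1⟩, ⟨1, 0⟩, ⟨2, 1⟩],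
  ![⟨2, 1⟩, ⟨3, 2⟩, ⟨1, 3⟩],
  ![⟨2, 0⟩, ⟨1, 3⟩, ⟨1, 1⟩],
  ![⟨2, 1⟩, ⟨1, 2⟩, ⟨2, 3⟩],
  ![⟨2, 1⟩, ⟨0, 1⟩, ⟨3, 3⟩],
  ![⟨0, 1⟩, ⟨0, 0⟩, ⟨1, 3⟩],
  ![⟨2, 0⟩, ⟨0, 0⟩, ⟨0, 3⟩],
  ![⟨0, 1⟩, ⟨1, 4⟩, ⟨3, 0⟩],
  ![⟨1, 0⟩, ⟨4, 2⟩, ⟨2, 1⟩],
  ![⟨1, 0⟩, ⟨0, 1⟩, ⟨0, 2⟩],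
  ![⟨2, 1⟩, ⟨0, 4⟩, ⟨2, 3⟩],
  ![⟨1, 0⟩, ⟨4, 3⟩, ⟨2, 1⟩],
  ![⟨2, 0⟩, ⟨0, 0⟩, ⟨3, 1⟩],
  ![⟨2, 1⟩, ⟨4, 4⟩, ⟨0, 0⟩],
  ![⟨2, 1⟩, ⟨2, 2⟩, ⟨1, 2⟩],
  ![⟨2, 0⟩, ⟨3, 0⟩, ⟨4, 3⟩],
  ![⟨1, 0⟩, ⟨2, 4⟩, ⟨0, 4⟩],
  ![⟨2, 1⟩, ⟨1, 1⟩, ⟨0, 0⟩],
  ![⟨1, 0⟩, ⟨2, 1⟩, ⟨4, 3⟩],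
  ![⟨0, 1⟩, ⟨3, 0⟩, ⟨2, 0⟩],
  ![⟨2, 0⟩, ⟨2, 0⟩, ⟨4, 3⟩],
  ![⟨0, 1⟩, ⟨3, 2⟩, ⟨2, 4⟩],
  ![⟨2, 0⟩, ⟨2, 2⟩, ⟨4, 0⟩],
  ![⟨2, 1⟩, ⟨4, 0⟩, ⟨0, 1⟩],
  ![⟨2, 0⟩, ⟨4, 4⟩, ⟨1, 2⟩]]

def outVec : Fin 3 → R25 := ![⟨0, 0⟩, ⟨0, 0⟩, ⟨1, 0⟩]

def imgA : Fin 105 → Fin 105 × R25 := ![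
  (1, ⟨4, 0⟩),
  (3, ⟨4, 0⟩),
  (5, ⟨1, 0⟩),
  (0, ⟨1, 0⟩),
  (8, ⟨2, 3⟩),
  (10, ⟨2, 2⟩),
  (12, ⟨4, 0⟩),
  (14, ⟨2, 3⟩),
  (16, ⟨4, 0⟩),
  (18, ⟨3, 3⟩),
  (2, ⟨2, 3⟩),
  (21, ⟨1, 0⟩),
  (15, ⟨3, 3⟩),
  (24, ⟨4, 0⟩),
  (26, ⟨3, 3⟩),
  (6, ⟨2, 3⟩),
  (4, ⟨3, 3⟩),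
  (30, ⟨4, 0⟩),
  (32, ⟨1, 0⟩),
  (34, ⟨3, 2⟩),
  (36, ⟨1, 0⟩),
  (38, ⟨2, 3⟩),
  (39, ⟨4, 0⟩),
  (41, ⟨2, 3⟩),
  (43, ⟨2, 3⟩),
  (45, ⟨2, 2⟩),
  (7, ⟨4, 0⟩),
  (47, ⟨3, 3⟩),
  (49, ⟨1, 0⟩),
  (51, ⟨1, 0⟩),
  (53, ⟨4, 0⟩),
  (55, ⟨1, 0⟩),
  (9, ⟨3, 2⟩),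
  (58, ⟨3, 2⟩),
  (60, ⟨4, 0⟩),
  (52, ⟨4, 0⟩),
  (61, ⟨4, 0⟩),
  (62, ⟨2, 2⟩),
  (11, ⟨2, 2⟩),
  (65, ⟨2, 3⟩),
  (31, ⟨2, 3⟩),
  (57, ⟨2, 2⟩),
  (27, ⟨3, 3⟩),
  (13, ⟨3, 3⟩),
  (69, ⟨2, 3⟩),
  (71, ⟨2, 3⟩),
  (73, ⟨3, 2⟩),
  (42, ⟨2, 2⟩),
  (50, ⟨3, 2⟩),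
  (75, ⟨3, 2⟩),
  (72, ⟨3, 3⟩),
  (59, ⟨3, 3⟩),
  (76, ⟨1, 0⟩),
  (17, ⟨1, 0⟩),
  (44, ⟨4, 0⟩),
  (40, ⟨2, 2⟩),
  (78, ⟨3, 2⟩),
  (23, ⟨1, 0⟩),
  (67, ⟨3, 3⟩),
  (29, ⟨3, 2⟩),
  (19, ⟨2, 2⟩),
  (20, ⟨4, 0⟩),
  (81, ⟨4, 0⟩),
  (85, ⟨1, 0⟩),
  (87, ⟨3, 2⟩),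
  (22, ⟨3, 3⟩),
  (90, ⟨1, 0⟩),
  (33, ⟨1, 0⟩),
  (89, ⟨3, 2⟩),
  (54, ⟨3, 3⟩),
  (80, ⟨3, 3⟩),
  (25, ⟨1, 0⟩),
  (48, ⟨1, 0⟩),
  (92, ⟨2, 2⟩),
  (66, ⟨1, 0⟩),
  (28, ⟨3, 3⟩),
  (35, ⟨4, 0⟩),
  (93, ⟨3, 3⟩),
  (86, ⟨3, 2⟩),
  (83, ⟨3, 3⟩),
  (95, ⟨1, 0⟩),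
  (37, ⟨3, 2⟩),
  (98, ⟨3, 3⟩),
  (99, ⟨3, 3⟩),
  (77, ⟨2, 3⟩),
  (101, ⟨2, 3⟩),
  (56, ⟨2, 3⟩),
  (91, ⟨2, 2⟩),
  (102, ⟨2, 3⟩),
  (97, ⟨3, 2⟩),
  (74, ⟨1, 0⟩),
  (64, ⟨4, 0⟩),
  (46, ⟨4, 0⟩),
  (84, ⟨4, 0⟩),
  (104, ⟨2, 3⟩),
  (70, ⟨3, 2⟩),
  (88, ⟨4, 0⟩),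
  (68, ⟨2, 3⟩),
  (103, ⟨2, 2⟩),
  (79, ⟨2, 2⟩),
  (94, ⟨3, 3⟩),
  (63, ⟨2, 2⟩),
  (96, ⟨3, 3⟩),
  (82, ⟨3, 3⟩),
  (100, ⟨4, 0⟩)]

def imgB : Fin 105 → Fin 105 × R25 := ![
  (2, ⟨2, 3⟩),
  (4, ⟨3, 3⟩),
  (6, ⟨2, 3⟩),
  (7, ⟨3, 3⟩),
  (9, ⟨1, 0⟩),
  (11, ⟨1, 0⟩),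
  (13, ⟨3, 3⟩),
  (15, ⟨2, 2⟩),
  (17, ⟨3, 3⟩),
  (19, ⟨4, 0⟩),
  (20, ⟨3, 2⟩),
  (22, ⟨2, 3⟩),
  (23, ⟨1, 0⟩),
  (25, ⟨2, 2⟩),
  (27, ⟨4, 0⟩),
  (28, ⟨3, 2⟩),
  (29, ⟨3, 3⟩),
  (31, ⟨3, 2⟩),
  (33, ⟨3, 3⟩),
  (35, ⟨2, 2⟩),
  (37, ⟨3, 3⟩),
  (18, ⟨3, 3⟩),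
  (40, ⟨2, 3⟩),
  (42, ⟨4, 0⟩),
  (44, ⟨3, 3⟩),
  (0, ⟨3, 2⟩),
  (46, ⟨2, 2⟩),
  (48, ⟨2, 3⟩),
  (50, ⟨1, 0⟩),
  (52, ⟨3, 3⟩),
  (54, ⟨3, 2⟩),
  (56, ⟨1, 0⟩),
  (57, ⟨1, 0⟩),
  (59, ⟨4, 0⟩),
  (14, ⟨4, 0⟩),
  (1, ⟨1, 0⟩),
  (39, ⟨2, 3⟩),
  (63, ⟨4, 0⟩),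
  (64, ⟨2, 2⟩),
  (66, ⟨3, 3⟩),
  (51, ⟨3, 3⟩),
  (38, ⟨3, 3⟩),
  (67, ⟨3, 2⟩),
  (68, ⟨2, 2⟩),
  (70, ⟨1, 0⟩),
  (72, ⟨2, 3⟩),
  (74, ⟨3, 2⟩),
  (49, ⟨2, 3⟩),
  (75, ⟨2, 2⟩),
  (24, ⟨3, 2⟩),
  (3, ⟨2, 2⟩),
  (5, ⟨4, 0⟩),
  (43, ⟨4, 0⟩),
  (77, ⟨3, 2⟩),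
  (73, ⟨4, 0⟩),
  (65, ⟨2, 3⟩),
  (79, ⟨1, 0⟩),
  (80, ⟨1, 0⟩),
  (81, ⟨2, 2⟩),
  (82, ⟨2, 2⟩),
  (83, ⟨1, 0⟩),
  (30, ⟨2, 3⟩),
  (84, ⟨1, 0⟩),
  (86, ⟨4, 0⟩),
  (88, ⟨2, 2⟩),
  (89, ⟨4, 0⟩),
  (91, ⟨2, 2⟩),
  (87, ⟨3, 3⟩),
  (16, ⟨3, 2⟩),
  (61, ⟨2, 2⟩),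
  (47, ⟨1, 0⟩),
  (41, ⟨3, 3⟩),
  (60, ⟨3, 2⟩),
  (69, ⟨1, 0⟩),
  (53, ⟨1, 0⟩),
  (34, ⟨2, 3⟩),
  (58, ⟨2, 2⟩),
  (26, ⟨1, 0⟩),
  (94, ⟨3, 3⟩),
  (8, ⟨2, 3⟩),
  (96, ⟨3, 2⟩),
  (97, ⟨1, 0⟩),
  (21, ⟨3, 2⟩),
  (100, ⟨1, 0⟩),
  (98, ⟨4, 0⟩),
  (62, ⟨1, 0⟩),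
  (10, ⟨2, 3⟩),
  (12, ⟨3, 2⟩),
  (71, ⟨2, 2⟩),
  (103, ⟨2, 2⟩),
  (78, ⟨4, 0⟩),
  (95, ⟨4, 0⟩),
  (85, ⟨3, 3⟩),
  (104, ⟨3, 3⟩),
  (93, ⟨3, 2⟩),
  (36, ⟨2, 2⟩),
  (101, ⟨2, 2⟩),
  (99, ⟨2, 3⟩),
  (92, ⟨2, 2⟩),
  (76, ⟨2, 2⟩),
  (45, ⟨3, 3⟩),
  (32, ⟨3, 2⟩),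
  (55, ⟨1, 0⟩),
  (102, ⟨3, 2⟩),
  (90, ⟨2, 2⟩)]

end CfsgLib.UnitFive
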